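import Mathlib
import Cfsg.Agent.TripleOrbits15.PSubgroup
import Cfsg.Agent.S2904

/-!
An element of primitive prime order of a transitive linear group.
-/

set_option autoImplicit false
set_option linter.unusedSectionVars false

open MulAction

namespace CfsgLib.TripleOrbits

variable {X : Type*} [Group X] [Finite X] {V : Type*} [AddCommGroup V] [Finite V]
  [DistribMulAction X V] {p k : ℕ}

/-- `r` is a primitive prime divisor of `p ^ k - 1` and `x` has order `r`. -/
structure Primitive (p k r : ℕ) {X : Type*} [Group X] (x : X) : Prop where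
  prime : r.Prime
  ord : orderOf x = r
  min : ∀ j, 0 < j → j < k → ¬ r ∣ p ^ j - 1
  ne : r ≠ p
  big : k < r
  big' : Odd k → 2 * k + 1 ≤ r

theorem exists_primitive_elem [Fact p.Prime] (hp2 : p ≠ 2) (hV : Nat.card V = p ^ k) (hk : 1 < k)
    (hk2 : k ≠ 2) (htr : ∀ u v : V, u ≠ 0 → v ≠ 0 → ∃ x : X, x • u = v) :
    ∃ (r : ℕ) (x : X), Primitive p k r x := by
  have hp := (Fact.out : p.Prime)
  obtain ⟨r, hr, hrd, hmin⟩ := Cfsg.Agent.S2904.result p k hp.one_lt hk
    (fun h => hp2 h.1) fun h => hk2 h.1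
  haveI := Fact.mk hr
  have hX : r ∣ Nat.card X := by
    haveI : Nontrivial V := Finite.one_lt_card_iff_nontrivial.1 (by
      rw [hV]; exact Nat.one_lt_pow (by omega) hp.one_lt)
    obtain ⟨u, hu⟩ := exists_ne (0 : V)
    have horb : orbit X u = {v : V | v ≠ 0} := by
      ext v
      refine ⟨?_, fun hv => ?_⟩
      · rintro ⟨x, rfl⟩
        exact fun h => hu ((smul_eq_zero_iff_eq x).1 h)
      · obtain ⟨x, rfl⟩ := htr u v hu hv
        exact ⟨x, rfl⟩
    have h1 := Nat.card_congr (orbitProdStabilizerEquivGroup X u)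
    rw [Nat.card_prod, horb] at h1
    have h2 : Nat.card {v : V | v ≠ 0} = p ^ k - 1 := by
      rw [Nat.card_coe_set_eq, show {v : V | v ≠ 0} = ({0} : Set V)ᶜ from rfl, Set.ncard_compl,
        Set.ncard_singleton, hV]
    rw [← h1, h2]
    exact hrd.mul_right _
  obtain ⟨x, hx⟩ := exists_prime_orderOf_dvd_card' r hX
  have hne : r ≠ p := by
    rintro rfl
    have h1 : r ∣ r ^ k := dvd_pow_self r (by omega)
    have h2 := Nat.dvd_sub h1 hrd
    rw [Nat.sub_sub_self (Nat.one_le_pow _ _ hp.pos)] at h2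
    exact hr.one_lt.ne' (Nat.dvd_one.1 h2)
  haveI : NeZero r := ⟨hr.ne_zero⟩
  have hp0 : (p : ZMod r) ≠ 0 := by
    rw [Ne, ZMod.natCast_eq_zero_iff]
    exact fun h => hne ((Nat.prime_dvd_prime_iff_eq hr hp).1 h)
  have key : ∀ n, (p : ZMod r) ^ n = 1 → r ∣ p ^ n - 1 := fun n h => by
    rw [← ZMod.natCast_eq_zero_iff, Nat.cast_sub (Nat.one_le_pow _ _ hp.pos), Nat.cast_pow, h, Nat.cast_one,
      sub_self]
  have hk1 : (p : ZMod r) ^ k = 1 := by
    have h := (ZMod.natCast_eq_zero_iff _ _).2 hrd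
    rw [Nat.cast_sub (Nat.one_le_pow _ _ hp.pos), Nat.cast_pow, Nat.cast_one, sub_eq_zero] at h
    exact h
  have hord : orderOf (p : ZMod r) = k := by
    have h1 : orderOf (p : ZMod r) ∣ k := orderOf_dvd_of_pow_eq_one hk1
    refine le_antisymm (Nat.le_of_dvd (by omega) h1) (le_of_not_gt fun h => ?_)
    exact hmin _ (Nat.pos_of_ne_zero fun h0 => by rw [h0, zero_dvd_iff] at h1; omega) h
      (key _ (pow_orderOf_eq_one _))
  have hdvd : k ∣ r - 1 := hord ▸ orderOf_dvd_of_pow_eq_one (ZMod.pow_card_sub_one_eq_one hp0)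
  have hr1 : r - 1 ≠ 0 := by have := hr.two_le; omega
  refine ⟨r, x, hr, hx, hmin, hne, ?_, fun hodd => ?_⟩
  · have := Nat.le_of_dvd (Nat.pos_of_ne_zero hr1) hdvd; omega
  · obtain ⟨c, hc⟩ := hdvd
    rcases c with _ | _ | c
    · omega
    · exfalso
      have hrk : r = k + 1 := by omega
      obtain ⟨m, hm⟩ := hodd
      rcases hr.eq_two_or_odd with h | h <;> omega
    · rw [mul_add, mul_add] at hc; omega

variable [Fact p.Prime]

/-- An element commuting with a primitive element fixes no nonzero vector unless it is trivial. -/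
theorem Primitive.fixed_eq_one {r : ℕ} {x : X} (hx : Primitive p k r x) (hV : Nat.card V = p ^ k)
    (hf : ∀ x : X, (∀ v : V, x • v = v) → x = 1) {d : X} (hd : x * d = d * x) {v : V} (hv : v ≠ 0)
    (hdv : d • v = v) : d = 1 := by
  classical
  haveI := Fact.mk hx.prime
  have hp := (Fact.out : p.Prime)
  have hsub : ∀ W : AddSubgroup V, (∀ g ∈ Subgroup.zpowers x, ∀ w ∈ W, g • w = w) →
      ∀ U : AddSubgroup V, W ≤ U → (∀ g ∈ Subgroup.zpowers x, ∀ w ∈ U, g • w ∈ U) →
      (∀ w ∈ U, (∀ g ∈ Subgroup.zpowers x, g • w = w) → w ∈ W) →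
      Nat.card U = 1 ∨ Nat.card U = p ^ k ∨ Nat.card W ≠ 1 := by
    intro W hW U hWU hU hUW
    by_contra hc
    simp only [not_or, not_not] at hc
    obtain ⟨hU1, hUk, hW1⟩ := hc
    obtain ⟨j, hjk, hj⟩ := (Nat.dvd_prime_pow hp).1 (hV ▸ U.card_addSubgroup_dvd_card)
    letI : MulAction (Subgroup.zpowers x) U :=
      { smul := fun g w => ⟨(g : X) • (w : V), hU g g.2 w w.2⟩
        one_smul := fun w => Subtype.ext (one_smul X (w : V))
        mul_smul := fun g g' w => Subtype.ext (mul_smul (g : X) g' (w : V)) }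
    have hP : IsPGroup r (Subgroup.zpowers x) := IsPGroup.of_card (n := 1) (by
      rw [Nat.card_zpowers, hx.ord, pow_one])
    have hmod := hP.card_modEq_card_fixedPoints (α := U)
    have hfix : fixedPoints (Subgroup.zpowers x) U = {0} := by
      refine Set.eq_singleton_iff_unique_mem.2 ⟨fun g => Subtype.ext (smul_zero (g : X)),
        fun w hw => Subtype.ext ?_⟩
      have hwW : (w : V) ∈ W := hUW w w.2 fun g hg => congrArg Subtype.val (hw ⟨g, hg⟩)
      rw [AddSubgroup.eq_bot_of_card_eq W hW1] at hwW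
      exact (AddSubgroup.mem_bot).1 hwW
    rw [hfix, Nat.card_coe_set_eq, Set.ncard_singleton, hj] at hmod
    have hdvd : r ∣ p ^ j - 1 := (Nat.modEq_iff_dvd' (Nat.one_le_pow _ _ hp.pos)).1 hmod.symm
    rcases Nat.eq_zero_or_pos j with rfl | hj0
    · exact hU1 (by rw [hj, pow_zero])
    rcases hjk.lt_or_eq with h | h
    · exact hx.min j hj0 h hdvd
    · exact hUk (h ▸ hj)
  let Fx : AddSubgroup V :=
    { carrier := {w | ∀ g ∈ Subgroup.zpowers x, g • w = w}
      zero_mem' := fun g _ => smul_zero g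
      add_mem' := fun {a b} ha hb g hg => by rw [smul_add, ha g hg, hb g hg]
      neg_mem' := fun {a} ha g hg => by rw [smul_neg, ha g hg] }
  have hFx : Nat.card Fx = 1 := by
    obtain ⟨j, hjk, hj⟩ := (Nat.dvd_prime_pow hp).1 (hV ▸ Fx.card_addSubgroup_dvd_card)
    letI : MulAction (Subgroup.zpowers x) V := MulAction.compHom _ (Subgroup.zpowers x).subtype
    have hP : IsPGroup r (Subgroup.zpowers x) := IsPGroup.of_card (n := 1) (by
      rw [Nat.card_zpowers, hx.ord, pow_one])
    have hmod := hP.card_modEq_card_fixedPoints (α := V)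
    have hfix : fixedPoints (Subgroup.zpowers x) V = (Fx : Set V) := Set.ext fun w =>
      ⟨fun h g hg => h ⟨g, hg⟩, fun h g => h g g.2⟩
    rw [hfix, show Nat.card ((Fx : Set V) : Type _) = Nat.card Fx from rfl, hV, hj] at hmod
    rcases Nat.eq_zero_or_pos j with rfl | hj0
    · rw [hj, pow_zero]
    rcases hjk.lt_or_eq with h | h
    · exfalso
      have hd' : r ∣ p ^ k - p ^ j :=
        (Nat.modEq_iff_dvd' (Nat.pow_le_pow_right hp.pos hjk)).1 hmod.symm
      rw [show p ^ k - p ^ j = p ^ j * (p ^ (k - j) - 1) by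
        rw [Nat.mul_sub_one, ← pow_add, Nat.add_sub_cancel' hjk]] at hd'
      rcases (Nat.Prime.dvd_mul hx.prime).1 hd' with h' | h'
      · exact hx.ne ((Nat.prime_dvd_prime_iff_eq hx.prime hp).1 (hx.prime.dvd_of_dvd_pow h'))
      · exact hx.min (k - j) (by omega) (by omega) h'
    · exfalso
      have hall : Fx = ⊤ := AddSubgroup.eq_top_of_card_eq _ (by rw [hj, h, hV])
      have : x = 1 := hf x fun w =>
        (show w ∈ Fx from hall ▸ AddSubgroup.mem_top w) x (Subgroup.mem_zpowers x)
      have h1 := hx.ord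
      rw [this, orderOf_one] at h1
      exact hx.prime.ne_one h1.symm
  let U : AddSubgroup V :=
    { carrier := {w | d • w = w}
      zero_mem' := smul_zero d
      add_mem' := fun {a b} (ha : d • a = a) (hb : d • b = b) => by
        show d • (a + b) = a + b
        rw [smul_add, ha, hb]
      neg_mem' := fun {a} (ha : d • a = a) => by
        show d • -a = -a
        rw [smul_neg, ha] }
  have hU : ∀ g ∈ Subgroup.zpowers x, ∀ w ∈ U, g • w ∈ U := by
    rintro g hg w (hw : d • w = w)
    obtain ⟨i, rfl⟩ := Subgroup.mem_zpowers_iff.1 hg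
    show d • x ^ i • w = x ^ i • w
    rw [← mul_smul, ← (Commute.zpow_left (show Commute x d from hd) i).eq, mul_smul, hw]
  rcases hsub ⊥ (fun g _ w hw => by rw [AddSubgroup.mem_bot] at hw; subst hw; exact smul_zero g)
    U bot_le hU (fun w _ hw => by
      have : w ∈ Fx := hw
      rwa [AddSubgroup.eq_bot_of_card_eq Fx hFx] at this) with h | h | h
  · have : v ∈ U := hdv
    rw [AddSubgroup.eq_bot_of_card_eq U h, AddSubgroup.mem_bot] at this
    exact absurd this hv
  · have hall : U = ⊤ := AddSubgroup.eq_top_of_card_eq _ (by rw [h, hV])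
    exact hf d fun w => (show w ∈ U from hall ▸ AddSubgroup.mem_top w)
  · exact absurd (AddSubgroup.card_bot) h

end CfsgLib.TripleOrbits
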