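import Mathlib
import Cfsg.Agent.TripleOrbits15.Primitive
import Cfsg.Agent.SuzukiAut.Out

/-!
Linear groups with an element of primitive prime order: scalars, determinants, simultaneous
eigenvectors, and the centraliser and normaliser of that element.
-/

set_option autoImplicit false
set_option linter.unusedSectionVars false
set_option linter.style.haveILetI false

namespace CfsgLib.TripleOrbits.Linear

open Module

/-- The standing hypotheses. -/
structure Hyp (X V : Type*) [Group X] [AddCommGroup V] [DistribMulAction X V] (p k r : ℕ) (x : X) :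
    Prop where
  two : p ≠ 2
  card : Nat.card V = p ^ k
  odd : Odd k
  faith : ∀ g : X, (∀ v : V, g • v = v) → g = 1
  prim : Primitive p k r x

variable {X : Type*} [Group X] [Finite X] {V : Type*} [AddCommGroup V] [Finite V]
  [DistribMulAction X V] {p k r : ℕ} [hp : Fact p.Prime] [Module (ZMod p) V] {x : X}

variable (p V) in
/-- The action as a linear map. -/
def lin : X →* Module.End (ZMod p) V where
  toFun g := (DistribSMul.toAddMonoidHom V g).toZModLinearMap p
  map_one' := LinearMap.ext fun v => one_smul X v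
  map_mul' g h := LinearMap.ext fun v => mul_smul g h v

theorem lin_apply (g : X) (v : V) : lin V p g v = g • v := rfl

theorem smul_zmod (g : X) (c : ZMod p) (v : V) : g • c • v = c • g • v :=
  (lin V p g).map_smul c v

variable (p V) in
/-- The scalars. -/
def scal : Subgroup X where
  carrier := {g | ∃ c : ZMod p, c ≠ 0 ∧ ∀ v : V, g • v = c • v}
  one_mem' := ⟨1, one_ne_zero, fun v => by rw [one_smul, one_smul]⟩
  mul_mem' := fun {a b} ⟨c, hc, h⟩ ⟨d, hd, h'⟩ =>
    ⟨c * d, mul_ne_zero hc hd, fun v => by rw [mul_smul, h', smul_zmod, h, smul_smul, mul_comm]⟩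
  inv_mem' := fun {a} ⟨c, hc, h⟩ => ⟨c⁻¹, inv_ne_zero hc, fun v => by
    have := h (a⁻¹ • v)
    rw [smul_inv_smul] at this
    conv_rhs => rw [this, smul_smul, inv_mul_cancel₀ hc, one_smul]⟩

variable (p V) in
/-- The determinant. -/
noncomputable def dt : X →* ZMod p := LinearMap.det.comp (lin V p)

theorem dt_comm (a b : X) : dt V p (a * b * a⁻¹ * b⁻¹) = 1 := by
  rw [map_mul, map_mul, map_mul, show dt V p a * dt V p b * dt V p a⁻¹ * dt V p b⁻¹ =
    (dt V p a * dt V p a⁻¹) * (dt V p b * dt V p b⁻¹) by ring, ← map_mul, ← map_mul,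
    mul_inv_cancel, mul_inv_cancel, map_one, one_mul]

/-- A simultaneous eigenvector. -/
def Eig (T : Subgroup X) (χ : T → ZMod p) (v : V) : Prop := ∀ t : T, (t : X) • v = χ t • v

variable (hX : Hyp X V p k r x)

include hX

theorem finrank_eq : finrank (ZMod p) V = k := by
  haveI := Fintype.ofFinite V
  have h := Module.card_eq_pow_finrank (K := ZMod p) (V := V)
  rw [ZMod.card, ← Nat.card_eq_fintype_card, hX.card] at h
  exact (Nat.pow_right_injective hp.out.two_le h).symm

theorem k_pos : 0 < k := by obtain ⟨m, hm⟩ := hX.odd; omega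

theorem nontrivial : Nontrivial V := Finite.one_lt_card_iff_nontrivial.1 (by
  rw [hX.card]; exact Nat.one_lt_pow (k_pos hX).ne' hp.out.one_lt)

theorem scal_commute {g : X} (hg : g ∈ scal V p) (h : X) : g * h = h * g := by
  obtain ⟨c, -, hc⟩ := hg
  refine (inv_mul_eq_one.1 (hX.faith ((h * g)⁻¹ * (g * h)) fun v => ?_)).symm
  rw [mul_smul, inv_smul_eq_iff, mul_smul, mul_smul, hc, hc, smul_zmod]

theorem dt_scal {g : X} {c : ZMod p} (h : ∀ v : V, g • v = c • v) : dt V p g = c ^ k := by
  have : lin V p g = c • LinearMap.id := LinearMap.ext fun v => h v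
  rw [dt, MonoidHom.comp_apply, this, LinearMap.det_smul, LinearMap.det_id, mul_one, finrank_eq hX]

/-- A scalar two-element of determinant one is trivial. -/
theorem scal_eq_one {g : X} (hg : g ∈ scal V p) (hd : dt V p g = 1) {e : ℕ} (he : g ^ 2 ^ e = 1) :
    g = 1 := by
  haveI := nontrivial hX
  obtain ⟨c, -, hc⟩ := hg
  have h1 : c ^ k = 1 := (dt_scal hX hc).symm.trans hd
  have hpow : ∀ (n : ℕ) (v : V), g ^ n • v = c ^ n • v := by
    intro n
    induction n with
    | zero => intro v; rw [pow_zero, one_smul, pow_zero, one_smul]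
    | succ n ih => intro v; rw [pow_succ, mul_smul, hc, smul_zmod, ih, smul_smul, pow_succ, mul_comm]
  obtain ⟨v, hv⟩ := exists_ne (0 : V)
  have h2 : c ^ 2 ^ e = 1 := by
    have h := hpow (2 ^ e) v
    rw [he, one_smul] at h
    by_contra hne
    refine hv ((smul_eq_zero.1 (?_ : (c ^ 2 ^ e - 1) • v = 0)).resolve_left (sub_ne_zero.2 hne))
    rw [sub_smul, ← h, one_smul, sub_self]
  have h3 : Nat.gcd k (2 ^ e) = 1 := by
    exact Nat.Coprime.pow_right e (Nat.coprime_two_right.2 hX.odd)
  have : c = 1 := by simpa [h3] using pow_gcd_eq_one.2 ⟨h1, h2⟩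
  exact hX.faith g fun w => by rw [hc, this, one_smul]

/-- The primitive element acts irreducibly. -/
theorem irreducible (U : AddSubgroup V) (hU : ∀ w ∈ U, x • w ∈ U) {u : V} (hu : u ∈ U)
    (hu0 : u ≠ 0) : U = ⊤ := by
  classical
  haveI := Fact.mk hX.prim.prime
  have hUi : ∀ (n : ℕ), ∀ w ∈ U, x ^ n • w ∈ U := by
    intro n
    induction n with
    | zero => intro w hw; rwa [pow_zero, one_smul]
    | succ n ih => intro w hw; rw [pow_succ', mul_smul]; exact hU _ (ih w hw)
  obtain ⟨j, hjk, hj⟩ := (Nat.dvd_prime_pow hp.out).1 (hX.card ▸ U.card_addSubgroup_dvd_card)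
  rcases hjk.lt_or_eq with hlt | heq
  swap
  · exact AddSubgroup.eq_top_of_card_eq _ (by rw [hj, heq, hX.card])
  exfalso
  have hj0 : 0 < j := by
    rcases Nat.eq_zero_or_pos j with rfl | h
    · rw [pow_zero] at hj
      rw [AddSubgroup.eq_bot_of_card_eq U hj, AddSubgroup.mem_bot] at hu
      exact absurd hu hu0
    · exact h
  letI : MulAction (Subgroup.zpowers x) U :=
    { smul := fun g w => ⟨(g : X) • (w : V), by
        obtain ⟨n, hn⟩ := (mem_powers_iff_mem_zpowers.2 g.2 : (g : X) ∈ Submonoid.powers x)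
        exact hn ▸ hUi n w w.2⟩
      one_smul := fun w => Subtype.ext (one_smul X (w : V))
      mul_smul := fun g g' w => Subtype.ext (mul_smul (g : X) g' (w : V)) }
  have hP : IsPGroup r (Subgroup.zpowers x) := IsPGroup.of_card (n := 1) (by
    rw [Nat.card_zpowers, hX.prim.ord, pow_one])
  have hmod := hP.card_modEq_card_fixedPoints (α := U)
  have hfix : MulAction.fixedPoints (Subgroup.zpowers x) U = {0} := by
    refine Set.eq_singleton_iff_unique_mem.2 ⟨fun g => Subtype.ext (smul_zero (g : X)),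
      fun w hw => Subtype.ext ?_⟩
    by_contra hw0
    have hfw : x • (w : V) = w := congrArg Subtype.val (hw ⟨x, Subgroup.mem_zpowers x⟩)
    have h1 := hX.prim.fixed_eq_one hX.card hX.faith (d := x) rfl hw0 hfw
    have h2 := hX.prim.ord
    rw [h1, orderOf_one] at h2
    exact hX.prim.prime.ne_one h2.symm
  rw [hfix, Nat.card_coe_set_eq, Set.ncard_singleton, hj] at hmod
  exact hX.prim.min j hj0 hlt ((Nat.modEq_iff_dvd' (Nat.one_le_pow _ _ hp.out.pos)).1 hmod.symm)

/-- Distinct simultaneous eigenvalue systems are at most `k`. -/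
theorem eig_card_le {ι : Type*} [Fintype ι] (T : Subgroup X)
    (hT : ∀ a ∈ T, ∀ b ∈ T, a * b = b * a) (χ : ι → T → ZMod p) (hχ : Function.Injective χ)
    (v : ι → V) (hv : ∀ i, v i ≠ 0) (hev : ∀ i, Eig T (χ i) (v i)) :
    Fintype.card ι ≤ k := by
  classical
  let f : T → Module.End (ZMod p) V := fun t => lin V p (t : X)
  have hcomm : ∀ i j : T, Commute (f i) (f j) := fun i j => by
    show lin V p (i : X) * lin V p (j : X) = lin V p (j : X) * lin V p (i : X)
    rw [← map_mul, ← map_mul, hT _ i.2 _ j.2]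
  have hind := (Module.End.independent_iInf_maxGenEigenspace_of_forall_mapsTo f
    (fun i j φ => Module.End.mapsTo_maxGenEigenspace_of_comm (hcomm j i) φ)).comp hχ
  have hmem : ∀ i, v i ∈ ⨅ t, (f t).maxGenEigenspace (χ i t) := fun i =>
    (Module.End.mem_iInf_maxGenEigenspace_iff f (χ i) (v i)).2 fun t => ⟨1, by
      rw [pow_one, LinearMap.sub_apply, LinearMap.smul_apply, Module.End.one_apply, lin_apply,
        hev i t, sub_self]⟩
  have := (hind.linearIndependent _ hmem hv).fintype_card_le_finrank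
  rwa [finrank_eq hX] at this

/-- A commuting family with scalar squares has a simultaneous eigenvector in any invariant
nonzero submodule. -/
theorem exists_eig (T : Subgroup X) (hT : ∀ a ∈ T, ∀ b ∈ T, a * b = b * a)
    (hsq : ∀ t ∈ T, ∃ μ : ZMod p, ∀ v : V, t • t • v = (μ * μ) • v)
    (W : Submodule (ZMod p) V) (hW : ∀ t ∈ T, ∀ w ∈ W, t • w ∈ W) (hW0 : W ≠ ⊥) :
    ∃ v ∈ W, v ≠ 0 ∧ ∃ χ : T → ZMod p, Eig T χ v := by
  classical
  haveI : Fintype T := Fintype.ofFinite T
  suffices H : ∀ (s : Finset T) (W : Submodule (ZMod p) V), (∀ t ∈ T, ∀ w ∈ W, t • w ∈ W) → W ≠ ⊥ →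
      ∃ v ∈ W, v ≠ 0 ∧ ∀ t ∈ s, ∃ c : ZMod p, (t : X) • v = c • v by
    obtain ⟨v, hv, hv0, h⟩ := H Finset.univ W hW hW0
    choose χ hχ using fun t => h t (Finset.mem_univ t)
    exact ⟨v, hv, hv0, χ, hχ⟩
  intro s
  induction s using Finset.induction_on with
  | empty =>
    intro W hW hW0
    obtain ⟨v, hv, hv0⟩ := (Submodule.ne_bot_iff W).1 hW0
    exact ⟨v, hv, hv0, by simp⟩
  | insert t s ht ih =>
    intro W hW hW0
    obtain ⟨μ, hμ⟩ := hsq t t.2
    -- an eigenvalue on `W`
    obtain ⟨c, u, huW, hu0, huc⟩ :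
        ∃ c : ZMod p, ∃ u ∈ W, u ≠ 0 ∧ (t : X) • u = c • u := by
      obtain ⟨w, hw, hw0⟩ := (Submodule.ne_bot_iff W).1 hW0
      by_cases h : (t : X) • w - μ • w = 0
      · exact ⟨μ, w, hw, hw0, sub_eq_zero.1 h⟩
      · refine ⟨-μ, (t : X) • w - μ • w, W.sub_mem (hW t t.2 w hw) (W.smul_mem μ hw), h, ?_⟩
        rw [smul_sub, hμ, smul_zmod, smul_sub, smul_smul, neg_mul, neg_smul, neg_smul]
        abel
    let W' : Submodule (ZMod p) V :=
      W ⊓ LinearMap.ker (lin V p (t : X) - c • LinearMap.id)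
    have hmem' : ∀ w, w ∈ W' ↔ w ∈ W ∧ (t : X) • w = c • w := fun w => by
      simp only [W', Submodule.mem_inf, LinearMap.mem_ker, LinearMap.sub_apply, LinearMap.smul_apply,
        LinearMap.id_apply, lin_apply, sub_eq_zero]
    obtain ⟨v, hv, hv0, h⟩ := ih W' (fun g hg w hw => by
      obtain ⟨hwW, hwc⟩ := (hmem' w).1 hw
      refine (hmem' _).2 ⟨hW g hg w hwW, ?_⟩
      rw [← mul_smul, hT _ t.2 g hg, mul_smul, hwc, smul_zmod])
      ((Submodule.ne_bot_iff W').2 ⟨u, (hmem' u).2 ⟨huW, huc⟩, hu0⟩)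
    exact ⟨v, ((hmem' v).1 hv).1, hv0, fun g hg => (Finset.mem_insert.1 hg).elim
      (fun e => ⟨c, e ▸ ((hmem' v).1 hv).2⟩) (h g)⟩

/-- A nonzero endomorphism commuting with the primitive element is injective. -/
theorem ker_trivial {a : Module.End (ZMod p) V} (ha : a * lin V p x = lin V p x * a) (ha0 : a ≠ 0)
    {v : V} (hv : a v = 0) : v = 0 := by
  by_contra hv0
  refine ha0 (LinearMap.ext fun w => ?_)
  have hall := irreducible hX (LinearMap.ker a).toAddSubgroup (fun w hw => by
    have h := LinearMap.congr_fun ha w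
    show a (x • w) = 0
    rw [show a (x • w) = x • a w from h, show a w = 0 from hw, smul_zero]) (u := v) hv hv0
  exact (show w ∈ (LinearMap.ker a).toAddSubgroup from hall ▸ AddSubgroup.mem_top w)

theorem isField_centralizer :
    IsField ↥(Subring.centralizer ({lin V p x} : Set (Module.End (ZMod p) V))) := by
  classical
  haveI := nontrivial hX
  let R : Subring (Module.End (ZMod p) V) := Subring.centralizer {lin V p x}
  haveI : Finite (Module.End (ZMod p) V) :=
    Finite.of_injective (fun g => ⇑g) DFunLike.coe_injective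
  haveI : Nontrivial R := ⟨⟨0, 1, fun h => by
    obtain ⟨v, hv⟩ := exists_ne (0 : V)
    exact hv (LinearMap.congr_fun (congrArg Subtype.val h) v).symm⟩⟩
  haveI : NoZeroDivisors R := ⟨fun {a b} h => by
    by_cases hb : b = 0
    · exact Or.inr hb
    by_contra hc
    push Not at hc
    obtain ⟨v, hv⟩ : ∃ v, b.1 v ≠ 0 := by
      by_contra h'
      push Not at h'
      exact hb (Subtype.ext (LinearMap.ext h'))
    exact hv (ker_trivial hX (Subring.mem_centralizer_iff.1 a.2 _ rfl).symm
      (fun h' => hc.1 (Subtype.ext h')) (LinearMap.congr_fun (congrArg Subtype.val h) v))⟩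
  haveI : IsDomain R := NoZeroDivisors.to_isDomain _
  exact Finite.isDomain_to_isField R

/-- The centraliser of the primitive element. -/
theorem isCyclic_centralizer : IsCyclic ↥(Subgroup.centralizer ({x} : Set X)) := by
  classical
  let R : Subring (Module.End (ZMod p) V) := Subring.centralizer {lin V p x}
  haveI : Finite (Module.End (ZMod p) V) :=
    Finite.of_injective (fun g => ⇑g) DFunLike.coe_injective
  letI : Field R := (isField_centralizer hX).toField
  let f : ↥(Subgroup.centralizer ({x} : Set X)) →* R :=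
    { toFun := fun g => ⟨lin V p (g : X), Subring.mem_centralizer_iff.2 fun y hy => by
        rw [Set.mem_singleton_iff.1 hy, ← map_mul, ← map_mul, Subgroup.mem_centralizer_iff.1 g.2 x rfl]⟩
      map_one' := Subtype.ext (map_one _)
      map_mul' := fun a b => Subtype.ext (map_mul (lin V p) (a : X) b) }
  refine isCyclic_of_injective_ringHom f fun a b h => Subtype.ext ?_
  refine (inv_mul_eq_one.1 (hX.faith ((b : X)⁻¹ * a) fun v => ?_)).symm
  rw [mul_smul, inv_smul_eq_iff]
  exact LinearMap.congr_fun (congrArg Subtype.val h) v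

/-- A two-element normalising the group of the primitive element centralises it. -/
theorem two_commute {t : X} {e : ℕ} (ht : t ^ 2 ^ e = 1) (hn : t * x * t⁻¹ ∈ Subgroup.zpowers x) :
    t * x = x * t := by
  classical
  haveI := nontrivial hX
  let R : Subring (Module.End (ZMod p) V) := Subring.centralizer {lin V p x}
  haveI : Finite (Module.End (ZMod p) V) :=
    Finite.of_injective (fun g => ⇑g) DFunLike.coe_injective
  letI iF : Field R := (isField_centralizer hX).toField
  letI : Fintype R := Fintype.ofFinite R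
  letI : Module R V :=
    { smul := fun a v => a.1 v
      one_smul := fun _ => rfl
      mul_smul := fun _ _ _ => rfl
      smul_zero := fun a => map_zero a.1
      smul_add := fun a => map_add a.1
      add_smul := fun _ _ _ => rfl
      zero_smul := fun _ => rfl }
  haveI := Fintype.ofFinite V
  obtain ⟨q, hq⟩ := CharP.exists R
  obtain ⟨⟨j, hj0⟩, hqp, hR⟩ := FiniteField.card R q
  have hV := Module.card_eq_pow_finrank (K := R) (V := V)
  rw [hR, ← pow_mul, ← Nat.card_eq_fintype_card, hX.card] at hV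
  obtain rfl : p = q := by
    have h1 : p ∣ q ^ (j * finrank R V) := by
      refine (dvd_pow_self p (k_pos hX).ne').trans ?_
      rw [hV]; rfl
    exact (Nat.prime_dvd_prime_iff_eq hp.out hqp).1 (hp.out.dvd_of_dvd_pow h1)
  haveI := hq
  have hjodd : Odd j := by
    have : k = j * finrank R V := Nat.pow_right_injective hp.out.two_le hV
    exact (Nat.odd_mul.1 (this ▸ hX.odd)).1
  haveI : Finite (R ≃+* R) := Finite.of_injective (fun σ => (σ : R → R)) DFunLike.coe_injective
  have haut : Nat.card (R ≃+* R) = j := CfsgLib.SuzukiAut.card_ringAut (p := p) (n := j) hR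
  -- conjugation by `t`
  have hcen : ∀ g : X, g * x * g⁻¹ ∈ Subgroup.zpowers x → ∀ a ∈ R,
      lin V p g⁻¹ * a * lin V p g ∈ R := by
    intro g hg a ha
    refine Subring.mem_centralizer_iff.2 fun y hy => ?_
    rw [Set.mem_singleton_iff.1 hy]
    obtain ⟨n, hn⟩ := (mem_powers_iff_mem_zpowers.2 hg : g * x * g⁻¹ ∈ Submonoid.powers x)
    have hc : Commute (lin V p x) a := Subring.mem_centralizer_iff.1 ha _ rfl
    have hc' : lin V p (g * x * g⁻¹) * a = a * lin V p (g * x * g⁻¹) := by
      rw [← hn]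
      show lin V p (x ^ n) * a = a * lin V p (x ^ n)
      rw [map_pow]
      exact (hc.pow_left n).eq
    calc lin V p x * (lin V p g⁻¹ * a * lin V p g)
        = lin V p g⁻¹ * (lin V p (g * x * g⁻¹) * a) * lin V p g := by
          simp only [← mul_assoc, ← map_mul, inv_mul_cancel, one_mul]
      _ = lin V p g⁻¹ * a * lin V p g * lin V p x := by
          rw [hc']
          simp only [mul_assoc, ← map_mul, inv_mul_cancel, mul_one]
  let N : Submonoid X :=
    { carrier := {g | g * x * g⁻¹ ∈ Subgroup.zpowers x}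
      one_mem' := by simp [Subgroup.mem_zpowers]
      mul_mem' := fun {g g'} hg hg' => by
        obtain ⟨n, hn'⟩ := Subgroup.mem_zpowers_iff.1 (show g' * x * g'⁻¹ ∈ Subgroup.zpowers x from hg')
        show g * g' * x * (g * g')⁻¹ ∈ Subgroup.zpowers x
        rw [show g * g' * x * (g * g')⁻¹ = (g * x * g⁻¹) ^ n by rw [conj_zpow, hn']; group]
        exact (Subgroup.zpowers x).zpow_mem hg n }
  have htN : t⁻¹ ∈ N := by
    obtain ⟨n, hn'⟩ := (mem_powers_iff_mem_zpowers.2 (Subgroup.inv_mem _ (Subgroup.mem_zpowers t)) :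
      t⁻¹ ∈ Submonoid.powers t)
    exact hn' ▸ pow_mem (show t ∈ N from hn) n
  have hcan : ∀ g : X, ∀ a : Module.End (ZMod p) V,
      lin V p g * (lin V p g⁻¹ * a * lin V p g) * lin V p g⁻¹ = a := fun g a => by
    rw [← mul_assoc, ← mul_assoc, ← map_mul, mul_inv_cancel, map_one, one_mul, mul_assoc,
      ← map_mul, mul_inv_cancel, map_one, mul_one]
  have hco : ∀ a b : Module.End (ZMod p) V, lin V p t * (a * b) * lin V p t⁻¹ =
      lin V p t * a * lin V p t⁻¹ * (lin V p t * b * lin V p t⁻¹) := fun a b => by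
    simp only [mul_assoc]
    rw [← mul_assoc (lin V p t⁻¹), ← map_mul, inv_mul_cancel, map_one, one_mul]
  let σ : R ≃+* R :=
    { toFun := fun a => ⟨lin V p t * a.1 * lin V p t⁻¹, by
        have := hcen t⁻¹ htN a.1 a.2
        rwa [inv_inv] at this⟩
      invFun := fun a => ⟨lin V p t⁻¹ * a.1 * lin V p t, hcen t hn a.1 a.2⟩
      left_inv := fun a => Subtype.ext (by
        have := hcan t⁻¹ a.1
        rwa [inv_inv] at this)
      right_inv := fun a => Subtype.ext (hcan t a.1)
      map_mul' := fun a b => Subtype.ext (hco a.1 b.1)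
      map_add' := fun a b => Subtype.ext (by
        show lin V p t * (a.1 + b.1) * lin V p t⁻¹ =
          lin V p t * a.1 * lin V p t⁻¹ + lin V p t * b.1 * lin V p t⁻¹
        rw [mul_add, add_mul]) }
  have hpow : ∀ (n : ℕ) (a : R), ((σ ^ n) a).1 = lin V p (t ^ n) * a.1 * lin V p (t ^ n)⁻¹ := by
    intro n
    induction n with
    | zero => intro a; simp
    | succ n ih =>
      intro a
      rw [pow_succ']
      show lin V p t * ((σ ^ n) a).1 * lin V p t⁻¹ = _
      rw [ih, pow_succ' t, mul_inv_rev, map_mul, map_mul]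
      simp only [mul_assoc]
  have hσe : σ ^ 2 ^ e = 1 := RingEquiv.ext fun a => Subtype.ext (by rw [hpow, ht]; simp)
  have hσ : σ = 1 := by
    have h1 : orderOf σ ∣ 2 ^ e := orderOf_dvd_of_pow_eq_one hσe
    have h2 : orderOf σ ∣ j := haut ▸ orderOf_dvd_natCard σ
    exact orderOf_eq_one_iff.1 (Nat.dvd_one.1 ((Nat.Coprime.pow_left e
      (Nat.coprime_two_left.2 hjodd)) ▸ Nat.dvd_gcd h1 h2))
  have hx : lin V p x ∈ R := Subring.mem_centralizer_iff.2 fun y hy => by
    rw [Set.mem_singleton_iff.1 hy]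
  have h3 := congrArg (fun s : R ≃+* R => (s ⟨lin V p x, hx⟩).1) hσ
  change lin V p t * lin V p x * lin V p t⁻¹ = lin V p x at h3
  rw [← map_mul, ← map_mul] at h3
  have h4 : t * x * t⁻¹ = x := (inv_mul_eq_one.1 (hX.faith (x⁻¹ * (t * x * t⁻¹)) fun v => by
    rw [mul_smul, inv_smul_eq_iff]
    exact LinearMap.congr_fun h3 v)).symm
  exact mul_inv_eq_iff_eq_mul.1 h4

end CfsgLib.TripleOrbits.Linear
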