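import Mathlib
import Cfsg.Agent.TripleOrbits15.Linear
import Cfsg.Agent.S0205

/-!
Two-subgroups normalised by an element of primitive prime order consist of scalars.
-/

set_option autoImplicit false
set_option linter.unusedSectionVars false
set_option linter.style.haveILetI false

namespace CfsgLib.TripleOrbits.Linear

variable {X : Type*} [Group X] [Finite X] {V : Type*} [AddCommGroup V] [Finite V]
  [DistribMulAction X V] {p k r : ℕ} [hp : Fact p.Prime] [Module (ZMod p) V] {x : X}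

variable (V p) in
/-- Every two-element is a scalar. -/
def Good (K : Subgroup X) : Prop := ∀ g ∈ K, (∃ e : ℕ, g ^ 2 ^ e = 1) → g ∈ scal V p

/-- The element normalises the subgroup. -/
def Inv (x : X) (K : Subgroup X) : Prop := ∀ g ∈ K, x * g * x⁻¹ ∈ K

theorem Inv.pow {K : Subgroup X} (h : Inv x K) : ∀ (n : ℕ), ∀ g ∈ K, x ^ n * g * (x ^ n)⁻¹ ∈ K := by
  intro n
  induction n with
  | zero => intro g hg; simpa using hg
  | succ n ih =>
    intro g hg
    have := h _ (ih g hg)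
    rw [pow_succ', mul_inv_rev]
    simpa only [mul_assoc] using this

theorem Inv.pow' {K : Subgroup X} (h : Inv x K) (n : ℕ) {g : X} (hg : g ∈ K) :
    (x ^ n)⁻¹ * g * x ^ n ∈ K := by
  obtain ⟨m, hm⟩ := (mem_powers_iff_mem_zpowers.2
    (Subgroup.inv_mem _ (Subgroup.pow_mem _ (Subgroup.mem_zpowers x) n)) :
      (x ^ n)⁻¹ ∈ Submonoid.powers x)
  have := h.pow m g hg
  change x ^ m = (x ^ n)⁻¹ at hm
  rwa [hm, inv_inv] at this

theorem Inv.mem_normalizer {K : Subgroup X} (h : Inv x K) : x ∈ Subgroup.normalizer (K : Set X) := by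
  refine Subgroup.mem_normalizer_iff.2 fun g => ⟨h g, fun hg => ?_⟩
  rw [show g = x⁻¹ * (x * g * x⁻¹) * x by group]
  simpa only [pow_one] using h.pow' 1 hg

theorem Inv.commutator {K : Subgroup X} (h : Inv x K) : Inv x ⁅K, K⁆ := by
  intro g hg
  have hmap : K.map (MulAut.conj x).toMonoidHom ≤ K := by
    rintro _ ⟨a, ha, rfl⟩; exact h a ha
  have h1 : (MulAut.conj x).toMonoidHom g ∈ (⁅K, K⁆).map (MulAut.conj x).toMonoidHom := ⟨g, hg, rfl⟩
  rw [Subgroup.map_commutator] at h1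
  exact Subgroup.commutator_mono hmap hmap h1

/-- An invariant Sylow subgroup. -/
theorem exists_invariant_sylow {B : Subgroup X} (hB : Inv x B) {s : ℕ} [Fact s.Prime] {q : ℕ}
    [Fact q.Prime] (hx : orderOf x = q) (hn : ¬ q ∣ Nat.card (Sylow s B)) :
    ∃ P : Sylow s B, Inv x ((P : Subgroup B).map B.subtype) := by
  let ψ : Subgroup.zpowers x →* MulAut B :=
    (Subgroup.normalizerMonoidHom B).comp
      (Subgroup.inclusion (Subgroup.zpowers_le.2 hB.mem_normalizer))
  letI : MulAction (Subgroup.zpowers x) (Sylow s B) := MulAction.compHom _ ψ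
  have hP : IsPGroup q (Subgroup.zpowers x) := IsPGroup.of_card (n := 1) (by
    rw [Nat.card_zpowers, hx, pow_one])
  obtain ⟨P, hfix⟩ := hP.nonempty_fixed_point_of_prime_not_dvd_card (Sylow s B) hn
  refine ⟨P, ?_⟩
  rintro _ ⟨g, hg, rfl⟩
  have h1 : ψ ⟨x, Subgroup.mem_zpowers x⟩ g ∈
      ((ψ ⟨x, Subgroup.mem_zpowers x⟩ • P : Sylow s B) : Subgroup B) := by
    rw [Sylow.pointwise_smul_def]
    exact Subgroup.smul_mem_pointwise_smul _ (ψ ⟨x, Subgroup.mem_zpowers x⟩) _ hg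
  rw [show ψ ⟨x, Subgroup.mem_zpowers x⟩ • P = P from hfix ⟨x, Subgroup.mem_zpowers x⟩] at h1
  exact ⟨_, h1, rfl⟩

variable (hX : Hyp X V p k r x)

include hX

/-- A two-group normalised by the primitive element consists of scalars. -/
theorem two_group_scal (T : Subgroup X) (hT : IsPGroup 2 T) (hinv : Inv x T) : T ≤ scal V p := by
  classical
  induction hn : Nat.card T using Nat.strong_induction_on generalizing T with
  | _ n ih =>
  subst hn
  by_cases hb : T = ⊥
  · rw [hb]; exact bot_le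
  haveI := nontrivial hX
  haveI : Fact (Nat.Prime 2) := ⟨Nat.prime_two⟩
  haveI : Nontrivial T := (Subgroup.nontrivial_iff_ne_bot T).2 hb
  haveI : Group.IsNilpotent T := hT.isNilpotent
  have hpow : ∀ g ∈ T, ∃ e : ℕ, g ^ 2 ^ e = 1 := fun g hg => by
    obtain ⟨e, he⟩ := hT ⟨g, hg⟩
    exact ⟨e, congrArg Subtype.val he⟩
  -- commutative
  have hK : ⁅T, T⁆ < T := by
    refine lt_of_le_of_ne (Subgroup.commutator_le.2 fun a ha b hb => ?_) fun e => ?_
    · exact T.mul_mem (T.mul_mem (T.mul_mem ha hb) (T.inv_mem ha)) (T.inv_mem hb)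
    · have h1 := IsSolvable.commutator_lt_top_of_nontrivial (G := T)
      refine h1.ne (Subgroup.map_injective T.subtype_injective ?_)
      rw [Subgroup.map_subtype_commutator, e, ← MonoidHom.range_eq_map, Subgroup.range_subtype]
  have hKc : Nat.card ↥(⁅T, T⁆) < Nat.card T := by
    refine lt_of_le_of_ne (Subgroup.card_le_of_le hK.le) fun e => hK.ne ?_
    exact Subgroup.eq_of_le_of_card_ge hK.le e.ge
  have hK' : ⁅T, T⁆ ≤ scal V p := ih _ hKc _ (hT.to_le hK.le) hinv.commutator rfl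
  have hcomm : ∀ a ∈ T, ∀ b ∈ T, a * b = b * a := by
    intro a ha b hb
    have hc : a * b * a⁻¹ * b⁻¹ ∈ ⁅T, T⁆ := Subgroup.commutator_mem_commutator ha hb
    obtain ⟨e, he⟩ := hpow _ (hK.le hc)
    have := scal_eq_one hX (hK' hc) (dt_comm a b) he
    rwa [mul_inv_eq_one, mul_inv_eq_iff_eq_mul] at this
  -- squares
  let Q : Subgroup X :=
    { carrier := {s | ∃ t ∈ T, t * t = s}
      one_mem' := ⟨1, T.one_mem, one_mul 1⟩
      mul_mem' := fun {a b} ⟨t, ht, h⟩ ⟨t', ht', h'⟩ => ⟨t * t', T.mul_mem ht ht', by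
        rw [← h, ← h', mul_assoc, mul_assoc, ← mul_assoc t', ← hcomm t ht t' ht']
        simp only [mul_assoc]⟩
      inv_mem' := fun {a} ⟨t, ht, h⟩ => ⟨t⁻¹, T.inv_mem ht, by rw [← h, mul_inv_rev]⟩ }
  have hQT : Q ≤ T := by
    rintro _ ⟨t, ht, rfl⟩; exact T.mul_mem ht ht
  have hQc : Nat.card Q < Nat.card T := by
    obtain ⟨m, hm, hm1⟩ := hT.nontrivial_iff_card.1 inferInstance
    obtain ⟨u, hu⟩ := exists_prime_orderOf_dvd_card' (G := T) 2 (hm1 ▸ dvd_pow_self 2 hm.ne')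
    refine lt_of_le_of_ne (Subgroup.card_le_of_le hQT) fun e => ?_
    let f : T → Q := fun t => ⟨(t : X) * t, t, t.2, rfl⟩
    have hf : Function.Surjective f := by
      rintro ⟨_, t, ht, rfl⟩; exact ⟨⟨t, ht⟩, rfl⟩
    have hinj := ((Nat.bijective_iff_surjective_and_card f).2 ⟨hf, e.symm⟩).1
    have h1 : f u = f 1 := Subtype.ext (by
      show (u : X) * u = (1 : X) * 1
      rw [one_mul, ← pow_two, ← SubgroupClass.coe_pow, ← hu, pow_orderOf_eq_one, Subgroup.coe_one])
    rw [hinj h1, orderOf_one] at hu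
    omega
  have hQ : Q ≤ scal V p := ih _ hQc _ (hT.to_le hQT) (by
    rintro _ ⟨t, ht, rfl⟩
    exact ⟨_, hinv t ht, by group⟩) rfl
  have hsq : ∀ t ∈ T, ∃ μ : ZMod p, ∀ v : V, t • t • v = (μ * μ) • v := by
    intro t ht
    obtain ⟨c, hc0, hc⟩ := hQ (show t * t ∈ Q from ⟨t, ht, rfl⟩)
    obtain ⟨m, hm⟩ := hX.odd
    have hd : dt V p t * dt V p t = c ^ k := by rw [← map_mul, dt_scal hX hc]
    refine ⟨dt V p t * (c ^ m)⁻¹, fun v => ?_⟩
    rw [← mul_smul, hc, mul_mul_mul_comm, hd, hm, ← mul_inv, ← pow_add, ← two_mul, pow_succ,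
      mul_comm (c ^ (2 * m)) c, mul_assoc, mul_inv_cancel₀ (pow_ne_zero _ hc0), mul_one]
  -- an eigenvector
  obtain ⟨v, -, hv0, χ, hχ⟩ := exists_eig hX T hcomm hsq ⊤ (fun _ _ _ _ => Submodule.mem_top)
    (by
      intro h
      obtain ⟨v, hv⟩ := exists_ne (0 : V)
      exact hv ((Submodule.mem_bot (ZMod p)).1 (h ▸ Submodule.mem_top)))
  let χs : Fin r → T → ZMod p := fun i t =>
    χ ⟨(x ^ (i : ℕ))⁻¹ * t * x ^ (i : ℕ), hinv.pow' i t.2⟩
  have hev : ∀ i : Fin r, Eig T (χs i) (x ^ (i : ℕ) • v) := by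
    intro i t
    show (t : X) • x ^ (i : ℕ) • v = χs i t • x ^ (i : ℕ) • v
    rw [← smul_zmod, ← hχ, ← mul_smul, ← mul_smul]
    congr 1
    group
  have hnot : ¬ Function.Injective χs := fun hinj => by
    have := eig_card_le hX T hcomm χs hinj _ (fun i => (smul_eq_zero_iff_eq _).not.2 hv0) hev
    rw [Fintype.card_fin] at this
    have := hX.prim.big
    omega
  simp only [Function.Injective, not_forall] at hnot
  obtain ⟨i, j, hij, hne⟩ := hnot
  wlog hlt : (i : ℕ) < j generalizing i j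
  · exact this j i hij.symm (Ne.symm hne) (lt_of_le_of_ne (not_lt.1 hlt) fun e => hne (Fin.ext e.symm))
  set g := x ^ ((j : ℕ) - i) with hg
  have hfix : ∀ t : T, χ ⟨g⁻¹ * t * g, hinv.pow' _ t.2⟩ = χ t := by
    intro t
    have h := congrFun hij ⟨x ^ (i : ℕ) * t * (x ^ (i : ℕ))⁻¹, hinv.pow _ _ t.2⟩
    have h1 : (x ^ (i : ℕ))⁻¹ * (x ^ (i : ℕ) * t * (x ^ (i : ℕ))⁻¹) * x ^ (i : ℕ) = t := by group
    have h2 : (x ^ (j : ℕ))⁻¹ * (x ^ (i : ℕ) * t * (x ^ (i : ℕ))⁻¹) * x ^ (j : ℕ) = g⁻¹ * t * g := by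
      rw [hg, show x ^ (j : ℕ) = x ^ (i : ℕ) * x ^ ((j : ℕ) - i) by
        rw [← pow_add, Nat.add_sub_cancel' hlt.le]]
      group
    change χ ⟨_, _⟩ = χ ⟨_, _⟩ at h
    simp only [h1, h2] at h
    exact h.symm
  let N : Submonoid X :=
    { carrier := {a | ∀ w : V, Eig T χ w → Eig T χ (a • w)}
      one_mem' := fun w hw => by rwa [one_smul]
      mul_mem' := fun {a b} ha hb w hw => by rw [mul_smul]; exact ha _ (hb w hw) }
  have hgN : g ∈ N := fun w hw t => by
    rw [← smul_zmod, ← hfix t, ← hw, ← mul_smul, ← mul_smul]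
    congr 1
    group
  haveI := Fact.mk hX.prim.prime
  have hxN : x ∈ N := by
    have hg1 : g ≠ 1 := fun e => by
      have h := orderOf_dvd_of_pow_eq_one e
      rw [hX.prim.ord] at h
      have := Nat.le_of_dvd (by omega) h
      omega
    have hxg : (⟨x, Subgroup.mem_zpowers x⟩ : Subgroup.zpowers x) ∈ Subgroup.zpowers
        (⟨g, Subgroup.pow_mem _ (Subgroup.mem_zpowers x) _⟩ : Subgroup.zpowers x) :=
      mem_zpowers_of_prime_card (by rw [Nat.card_zpowers, hX.prim.ord])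
        (fun e => hg1 (congrArg Subtype.val e))
    obtain ⟨m, hm⟩ := (mem_powers_iff_mem_zpowers.2 hxg)
    have hm' : g ^ m = x := congrArg Subtype.val hm
    exact hm' ▸ pow_mem hgN m
  let U : AddSubgroup V :=
    { carrier := {w | Eig T χ w}
      zero_mem' := fun t => by rw [smul_zero, smul_zero]
      add_mem' := fun {a b} ha hb t => by rw [smul_add, ha t, hb t, smul_add]
      neg_mem' := fun {a} ha t => by rw [smul_neg, ha t, smul_neg] }
  have hU := irreducible hX U (fun w hw => hxN w hw) (u := v) hχ hv0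
  intro t ht
  refine ⟨χ ⟨t, ht⟩, fun h0 => ?_, fun w => (show w ∈ U from hU ▸ AddSubgroup.mem_top w) ⟨t, ht⟩⟩
  have h := hχ ⟨t, ht⟩
  rw [h0, zero_smul] at h
  exact hv0 ((smul_eq_zero_iff_eq t).1 h)

/-- A group of order prime to `r` has scalar two-elements. -/
theorem good_of_not_dvd {K : Subgroup X} (hinv : Inv x K) (hr : ¬ r ∣ Nat.card K) : Good V p K := by
  classical
  haveI : Fact (Nat.Prime 2) := ⟨Nat.prime_two⟩
  haveI := Fact.mk hX.prim.prime
  obtain ⟨P, hP⟩ := exists_invariant_sylow hinv (s := 2) hX.prim.ord fun h =>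
    hr (h.trans ((Sylow.card_dvd_index (default : Sylow 2 K)).trans (Subgroup.index_dvd_card _)))
  have hscal := two_group_scal hX _ (P.isPGroup'.map _) hP
  rintro g hg ⟨e, he⟩
  have hQ : IsPGroup 2 (Subgroup.zpowers (⟨g, hg⟩ : K)) := by
    obtain ⟨i, -, hi⟩ := (Nat.dvd_prime_pow Nat.prime_two).1 (orderOf_dvd_of_pow_eq_one he)
    exact IsPGroup.of_card (n := i) (by rw [Nat.card_zpowers, Subgroup.orderOf_mk, hi])
  obtain ⟨Q, hQ'⟩ := hQ.exists_le_sylow
  obtain ⟨b, rfl⟩ := MulAction.exists_smul_eq K P Q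
  have h1 := hQ' (Subgroup.mem_zpowers _)
  rw [Sylow.coe_subgroup_smul] at h1
  obtain ⟨t, ht, hb⟩ := h1
  have hts : (t : X) ∈ scal V p := hscal ⟨t, ht, rfl⟩
  have hgt : (b : X) * t * (b : X)⁻¹ = g := congrArg Subtype.val hb
  rw [← scal_commute hX hts, mul_inv_cancel_right] at hgt
  exact hgt ▸ hts

/-- An `r`-group containing the primitive element centralises it. -/
theorem r_group {P : Subgroup X} (hP : IsPGroup r P) (hx : x ∈ P) :
    (∀ g ∈ P, g * x = x * g) ∧ ∀ g ∈ P, orderOf g = r → g ∈ Subgroup.zpowers x := by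
  classical
  haveI := Fact.mk hX.prim.prime
  have key : ∀ g : X, g * x = x * g → orderOf g = r → g ∈ Subgroup.zpowers x := by
    intro g hg ho
    haveI := isCyclic_centralizer hX
    let C := Subgroup.centralizer ({x} : Set X)
    have hgC : g ∈ C := Subgroup.mem_centralizer_iff.2 fun y hy => by
      rw [Set.mem_singleton_iff.1 hy]; exact hg.symm
    have hxC : x ∈ C := Subgroup.mem_centralizer_iff.2 fun y hy => by
      rw [Set.mem_singleton_iff.1 hy]
    haveI : Fintype C := Fintype.ofFinite C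
    by_contra hn
    have hsub : (insert (⟨g, hgC⟩ : C) ((Finset.range r).image fun i => (⟨x, hxC⟩ : C) ^ i)) ⊆
        Finset.univ.filter fun a : C => a ^ r = 1 := by
      intro a ha
      rw [Finset.mem_insert, Finset.mem_image] at ha
      rw [Finset.mem_filter]
      refine ⟨Finset.mem_univ _, ?_⟩
      rcases ha with rfl | ⟨i, -, rfl⟩
      · exact Subtype.ext (show g ^ r = 1 by rw [← ho, pow_orderOf_eq_one])
      · rw [← pow_mul, mul_comm, pow_mul, show (⟨x, hxC⟩ : C) ^ r = 1 from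
          Subtype.ext (show x ^ r = 1 by rw [← hX.prim.ord, pow_orderOf_eq_one]), one_pow]
    have h1 := (Finset.card_le_card hsub).trans (IsCyclic.card_pow_eq_one_le hX.prim.prime.pos)
    have hinj : Set.InjOn (fun i => (⟨x, hxC⟩ : C) ^ i) (Finset.range r : Set ℕ) := by
      intro i hi j hj h
      refine pow_injOn_Iio_orderOf (x := x) ?_ ?_ (congrArg Subtype.val h)
      · rw [hX.prim.ord]; exact Finset.mem_range.1 hi
      · rw [hX.prim.ord]; exact Finset.mem_range.1 hj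
    rw [Finset.card_insert_of_notMem, Finset.card_image_of_injOn hinj, Finset.card_range] at h1
    · omega
    · intro h
      obtain ⟨i, -, hi⟩ := Finset.mem_image.1 h
      have e : x ^ i = g := congrArg Subtype.val hi
      exact hn (e ▸ Subgroup.pow_mem _ (Subgroup.mem_zpowers x) i)
  haveI : Nontrivial P := ⟨⟨⟨x, hx⟩, 1, fun h => by
    have := congrArg Subtype.val h
    have h1 := hX.prim.ord
    rw [show x = 1 from this, orderOf_one] at h1
    exact hX.prim.prime.ne_one h1.symm⟩⟩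
  haveI := hP.center_nontrivial
  obtain ⟨m, hm, hm1⟩ := (hP.to_subgroup (Subgroup.center P)).nontrivial_iff_card.1 inferInstance
  obtain ⟨z, hz⟩ := exists_prime_orderOf_dvd_card' (G := Subgroup.center P) r
    (hm1 ▸ dvd_pow_self r hm.ne')
  have hzc : ∀ a : P, a * (z : P) = (z : P) * a := fun a => Subgroup.mem_center_iff.1 z.2 a
  have hzo : orderOf ((z : P) : X) = r := by rw [Subgroup.orderOf_coe, Subgroup.orderOf_coe, hz]
  have hzx : ((z : P) : X) ∈ Subgroup.zpowers x :=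
    key _ (congrArg Subtype.val (hzc ⟨x, hx⟩)).symm hzo
  have hxz : x ∈ Subgroup.zpowers ((z : P) : X) := by
    have h := mem_zpowers_of_prime_card (G := Subgroup.zpowers x) (p := r)
      (g := ⟨_, hzx⟩) (g' := ⟨x, Subgroup.mem_zpowers x⟩) (by rw [Nat.card_zpowers, hX.prim.ord])
      (fun e => by
        have e' : ((z : P) : X) = 1 := congrArg Subtype.val e
        rw [e', orderOf_one] at hzo
        exact hX.prim.prime.ne_one hzo.symm)
    obtain ⟨i, hi⟩ := Subgroup.mem_zpowers_iff.1 h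
    exact Subgroup.mem_zpowers_iff.2 ⟨i, congrArg Subtype.val hi⟩
  have hcomm : ∀ g ∈ P, g * x = x * g := by
    intro g hg
    obtain ⟨i, hi⟩ := Subgroup.mem_zpowers_iff.1 hxz
    rw [← hi]
    exact (Commute.zpow_right (show Commute g ((z : P) : X) from
      congrArg Subtype.val (hzc ⟨g, hg⟩)) i).eq
  exact ⟨hcomm, fun g hg ho => key g (hcomm g hg) ho⟩

/-- An invariant subgroup of order divisible by `r` contains the primitive element, in a Sylow
`r`-subgroup centralising it. -/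
theorem exists_sylow_mem {L : Subgroup X} (hinv : Inv x L) (hr : r ∣ Nat.card L) :
    haveI := Fact.mk hX.prim.prime
    ∃ P : Sylow r L, x ∈ (P : Subgroup L).map L.subtype := by
  classical
  haveI := Fact.mk hX.prim.prime
  obtain ⟨P, hP⟩ := exists_invariant_sylow hinv (s := r) hX.prim.ord (not_dvd_card_sylow r L)
  refine ⟨P, ?_⟩
  set P' := (P : Subgroup L).map L.subtype with hP'
  have hQ : IsPGroup r ↥(Subgroup.zpowers x ⊔ P') := IsPGroup.to_sup_of_normal_right'
    (IsPGroup.of_card (n := 1) (by rw [Nat.card_zpowers, hX.prim.ord, pow_one]))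
    (P.isPGroup'.map _) (Subgroup.zpowers_le.2 hP.mem_normalizer)
  obtain ⟨u, hu⟩ := exists_prime_orderOf_dvd_card' (G := (P : Subgroup L)) r
    (P.dvd_card_of_dvd_card hr)
  have huo : orderOf ((u : L) : X) = r := by rw [Subgroup.orderOf_coe, Subgroup.orderOf_coe, hu]
  have hux := (r_group hX hQ (Subgroup.mem_sup_left (Subgroup.mem_zpowers x))).2 ((u : L) : X)
    (Subgroup.mem_sup_right ⟨u, u.2, rfl⟩) huo
  have h := mem_zpowers_of_prime_card (G := Subgroup.zpowers x) (p := r)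
    (g := ⟨_, hux⟩) (g' := ⟨x, Subgroup.mem_zpowers x⟩) (by rw [Nat.card_zpowers, hX.prim.ord])
    (fun e => by
      have e' : ((u : L) : X) = 1 := congrArg Subtype.val e
      rw [e', orderOf_one] at huo
      exact hX.prim.prime.ne_one huo.symm)
  obtain ⟨i, hi⟩ := Subgroup.mem_zpowers_iff.1 h
  have hi' : ((u : L) : X) ^ i = x := congrArg Subtype.val hi
  exact hi' ▸ P'.zpow_mem ⟨u, u.2, rfl⟩ i

/-- If the primitive element lies in a normal subgroup, the two-part of the quotient is scalar. -/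
theorem exists_scal_of_mem {L B : Subgroup X} (hx : x ∈ L) (hLB : L ≤ B)
    (hn : ∀ b ∈ B, ∀ l ∈ L, b * l * b⁻¹ ∈ L) {g : X} (hg : g ∈ B) {e : ℕ} (he : g ^ 2 ^ e ∈ L) :
    ∃ z ∈ scal V p, z ∈ B ∧ (∃ e : ℕ, z ^ 2 ^ e = 1) ∧ g * z⁻¹ ∈ L := by
  classical
  haveI := Fact.mk hX.prim.prime
  have hrL : r ∣ Nat.card L := by
    rw [← hX.prim.ord, ← Subgroup.orderOf_mk x hx]
    exact orderOf_dvd_natCard _
  obtain ⟨P, hP⟩ := exists_sylow_mem hX (fun l hl => hn x (hLB hx) l hl) hrL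
  -- Frattini
  let cg : L ≃* L :=
    { toFun := fun l => ⟨g * l * g⁻¹, hn g hg l l.2⟩
      invFun := fun l => ⟨g⁻¹ * l * g, by simpa using hn g⁻¹ (B.inv_mem hg) l l.2⟩
      left_inv := fun l => Subtype.ext (by simp [mul_assoc])
      right_inv := fun l => Subtype.ext (by simp [mul_assoc])
      map_mul' := fun a b => Subtype.ext (by simp [mul_assoc]) }
  obtain ⟨l, hl⟩ := MulAction.exists_smul_eq L ((cg : MulAut L) • P) P
  set m := (l : X) * g with hm
  have hmem : ∀ a ∈ (P : Subgroup L).map L.subtype,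
      m * a * m⁻¹ ∈ (P : Subgroup L).map L.subtype := by
    rintro _ ⟨a, ha, rfl⟩
    have h1 : (cg : MulAut L) a ∈ (((cg : MulAut L) • P : Sylow r L) : Subgroup L) := by
      rw [Sylow.pointwise_smul_def]
      exact Subgroup.smul_mem_pointwise_smul _ (cg : MulAut L) _ ha
    have h2 : l * cg a * l⁻¹ ∈ ((l • ((cg : MulAut L) • P) : Sylow r L) : Subgroup L) := by
      rw [Sylow.coe_subgroup_smul]
      exact Subgroup.smul_mem_pointwise_smul _ (MulAut.conj l) _ h1
    rw [hl] at h2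
    refine ⟨_, h2, ?_⟩
    show (l : X) * (g * (a : X) * g⁻¹) * (l : X)⁻¹ = l * g * a * (l * g)⁻¹
    rw [mul_inv_rev]
    simp only [mul_assoc]
  have hmx : m * x * m⁻¹ ∈ Subgroup.zpowers x :=
    (r_group hX (P.isPGroup'.map _) hP).2 _ (hmem x hP) (by
      rw [← hX.prim.ord]
      exact MulEquiv.orderOf_eq (MulAut.conj m) x)
  have hmB : m ∈ B := B.mul_mem (hLB l.2) hg
  -- the two-part of `m`
  obtain ⟨a, u, hu, hmo⟩ :=
    Nat.exists_eq_pow_mul_and_not_dvd (orderOf_pos m).ne' 2 (by norm_num)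
  obtain ⟨s, hs⟩ : ∃ s, u * s ≡ 1 [MOD 2 ^ (e + a + 1)] := by
    have hc : Nat.Coprime u (2 ^ (e + a + 1)) :=
      Nat.Coprime.pow_right _ (Nat.coprime_comm.1 (Nat.prime_two.coprime_iff_not_dvd.2 hu))
    obtain ⟨s, -, hs⟩ := Nat.exists_mul_mod_eq_one_of_coprime hc (Nat.one_lt_two_pow (by omega))
    exact ⟨s, by rw [Nat.ModEq, hs, Nat.one_mod_eq_one.2 (Nat.one_lt_two_pow (by omega)).ne']⟩
  set z := m ^ (u * s) with hz
  have hz2 : z ^ 2 ^ a = 1 := by
    rw [hz, ← pow_mul, show u * s * 2 ^ a = orderOf m * s by rw [hmo]; ring, pow_mul,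
      pow_orderOf_eq_one, one_pow]
  have hzx : z * x * z⁻¹ ∈ Subgroup.zpowers x := by
    have : ∀ n : ℕ, m ^ n * x * (m ^ n)⁻¹ ∈ Subgroup.zpowers x := by
      intro n
      induction n with
      | zero => simp [Subgroup.mem_zpowers]
      | succ n ih =>
        obtain ⟨i, hi⟩ := Subgroup.mem_zpowers_iff.1 ih
        rw [show m ^ (n + 1) * x * (m ^ (n + 1))⁻¹ = (m * x * m⁻¹) ^ i by
          rw [conj_zpow, hi, pow_succ', mul_inv_rev]; simp only [mul_assoc]]
        exact Subgroup.zpow_mem _ hmx i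
    exact this _
  have hzc := two_commute hX hz2 hzx
  have hzs : z ∈ scal V p := by
    refine two_group_scal hX (Subgroup.zpowers z) (fun ⟨y, hy⟩ => ⟨a, ?_⟩) ?_ (Subgroup.mem_zpowers z)
    · obtain ⟨i, rfl⟩ := Subgroup.mem_zpowers_iff.1 hy
      exact Subtype.ext (show (z ^ i) ^ 2 ^ a = 1 by
        rw [← zpow_natCast, ← zpow_mul, mul_comm, zpow_mul, zpow_natCast, hz2, one_zpow])
    · intro y hy
      obtain ⟨i, rfl⟩ := Subgroup.mem_zpowers_iff.1 hy
      rw [← (Commute.zpow_left (show Commute z x from hzc) i).eq, mul_inv_cancel_right]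
      exact hy
  refine ⟨z, hzs, B.pow_mem hmB _, ⟨a, hz2⟩, ?_⟩
  -- modulo `L`
  have hLn : (L.subgroupOf B).Normal := ⟨fun a ha b => hn b b.2 a ha⟩
  let q := QuotientGroup.mk' (L.subgroupOf B)
  have h0 : ∀ y : B, q y = 1 ↔ (y : X) ∈ L := fun y => QuotientGroup.eq_one_iff y
  have hqg : q ⟨g, hg⟩ ^ 2 ^ e = 1 := by rw [← map_pow]; exact (h0 _).2 he
  have hqm : q ⟨m, hmB⟩ = q ⟨g, hg⟩ := by
    rw [show (⟨m, hmB⟩ : B) = ⟨(l : X), hLB l.2⟩ * ⟨g, hg⟩ from rfl, map_mul, (h0 _).2 l.2, one_mul]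
  have hqz : q ⟨z, B.pow_mem hmB _⟩ = q ⟨g, hg⟩ := by
    rw [show (⟨z, B.pow_mem hmB _⟩ : B) = ⟨m, hmB⟩ ^ (u * s) from rfl, map_pow, hqm]
    have h1 : u * s ≡ 1 [MOD 2 ^ e] := hs.of_dvd (pow_dvd_pow 2 (by omega))
    conv_rhs => rw [← pow_one (q ⟨g, hg⟩)]
    exact pow_eq_pow_iff_modEq.2 (h1.of_dvd (orderOf_dvd_of_pow_eq_one hqg))
  refine (h0 (⟨g, hg⟩ * ⟨z, B.pow_mem hmB _⟩⁻¹)).1 ?_
  rw [map_mul, map_inv, hqz, mul_inv_cancel]

/-- Scalar two-elements pass to an extension by a two-group. -/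
theorem good_step {L B : Subgroup X} (hLB : L ≤ B) (hBinv : Inv x B) (hLinv : Inv x L)
    (hn : ∀ b ∈ B, ∀ l ∈ L, b * l * b⁻¹ ∈ L) (hL : Good V p L)
    (htwo : ∀ b ∈ B, ∃ e : ℕ, b ^ 2 ^ e ∈ L) : Good V p B := by
  classical
  by_cases hr : r ∣ Nat.card B
  swap
  · exact good_of_not_dvd hX hBinv hr
  haveI := Fact.mk hX.prim.prime
  obtain ⟨P, hP⟩ := exists_sylow_mem hX hBinv hr
  have hxB : x ∈ B := Subgroup.map_subtype_le _ hP
  have hxL : x ∈ L := by
    obtain ⟨e, he⟩ := htwo x hxB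
    have hodd : r % 2 = 1 := by
      rcases hX.prim.prime.eq_two_or_odd with h | h
      · have := hX.prim.big' hX.odd
        have := k_pos hX
        omega
      · exact h
    obtain ⟨i, hi⟩ : ∃ i : ℕ, x = (x ^ 2 ^ e) ^ i := by
      obtain ⟨s, -, hs⟩ := Nat.exists_mul_mod_eq_one_of_coprime (n := 2 ^ e) (k := r)
        (Nat.Coprime.pow_left e (Nat.coprime_two_left.2 (Nat.odd_iff.2 hodd)))
        hX.prim.prime.one_lt
      refine ⟨s, ?_⟩
      rw [← pow_mul]
      conv_lhs => rw [← pow_one x]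
      exact pow_eq_pow_iff_modEq.2 (by rw [hX.prim.ord, Nat.ModEq, hs, Nat.one_mod_eq_one.2
        hX.prim.prime.one_lt.ne'])
    exact hi ▸ L.pow_mem he i
  rintro g hg ⟨e, he⟩
  obtain ⟨z, hzs, -, ⟨a, hz2⟩, hgz⟩ := exists_scal_of_mem hX hxL hLB hn hg (e := e)
    (he ▸ L.one_mem)
  have h2 : (g * z⁻¹) ^ 2 ^ (e + a) = 1 := by
    rw [(show Commute g z⁻¹ from (scal_commute hX ((scal V p).inv_mem hzs) g).symm).mul_pow, inv_pow,
      pow_add, pow_mul, he, one_pow, one_mul, mul_comm (2 ^ e), pow_mul, hz2, one_pow, inv_one]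
  have := (scal V p).mul_mem (hL _ hgz ⟨_, h2⟩) hzs
  rwa [inv_mul_cancel_right] at this

/-- A solvable invariant subgroup has scalar two-elements. -/
theorem good_of_solvable (K : Subgroup X) [Group.IsSolvable K] (hinv : Inv x K) : Good V p K := by
  classical
  induction hn : Nat.card K using Nat.strong_induction_on generalizing K with
  | _ n ih =>
  subst hn
  by_cases hb : K = ⊥
  · intro g hg _; rw [hb, Subgroup.mem_bot] at hg; exact hg ▸ (scal V p).one_mem
  set L := ⁅K, K⁆ with hL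
  have hLK : L ≤ K := Subgroup.commutator_le.2 fun a ha b hb' =>
    K.mul_mem (K.mul_mem (K.mul_mem ha hb') (K.inv_mem ha)) (K.inv_mem hb')
  have hlt : L < K := by
    haveI : Nontrivial K := (Subgroup.nontrivial_iff_ne_bot K).2 hb
    refine lt_of_le_of_ne hLK fun e => ?_
    refine (IsSolvable.commutator_lt_top_of_nontrivial (G := K)).ne
      (Subgroup.map_injective K.subtype_injective ?_)
    rw [Subgroup.map_subtype_commutator, ← hL, e, ← MonoidHom.range_eq_map, Subgroup.range_subtype]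
  haveI : Group.IsSolvable L :=
    Group.isSolvable_of_isSolvable_injective (Subgroup.inclusion_injective hLK)
  have hLgood := ih (Nat.card L) (lt_of_le_of_ne (Subgroup.card_le_of_le hLK) fun e =>
    hlt.ne (Subgroup.eq_of_le_of_card_ge hLK e.ge)) L hinv.commutator rfl
  have hab : ∀ a ∈ K, ∀ b ∈ K, ∀ n : ℕ, ∃ l ∈ L, (a * b) ^ n = l * (a ^ n * b ^ n) := by
    intro a ha b hb' n
    refine ⟨(a * b) ^ n * (a ^ n * b ^ n)⁻¹, ?_, (inv_mul_cancel_right _ _).symm⟩
    set c : K := (⟨a, ha⟩ * ⟨b, hb'⟩) ^ n * (⟨a, ha⟩ ^ n * ⟨b, hb'⟩ ^ n)⁻¹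
    have : c ∈ commutator K := by
      rw [← Abelianization.ker_of, MonoidHom.mem_ker]
      show Abelianization.of ((⟨a, ha⟩ * ⟨b, hb'⟩ : K) ^ n *
        (((⟨a, ha⟩ : K) ^ n) * ((⟨b, hb'⟩ : K) ^ n))⁻¹) = 1
      rw [map_mul, map_inv, map_mul, map_pow, map_pow, map_pow, map_mul, mul_pow, mul_inv_cancel]
    rw [hL, ← Subgroup.map_subtype_commutator]
    exact ⟨c, this, rfl⟩
  let B : Subgroup X :=
    { carrier := {b | b ∈ K ∧ ∃ e : ℕ, b ^ 2 ^ e ∈ L}
      one_mem' := ⟨K.one_mem, 0, by simp⟩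
      mul_mem' := by
        rintro a b ⟨ha, e, he⟩ ⟨hb', f, hf⟩
        refine ⟨K.mul_mem ha hb', e + f, ?_⟩
        obtain ⟨l, hl, h⟩ := hab a ha b hb' (2 ^ (e + f))
        rw [h]
        refine L.mul_mem hl (L.mul_mem ?_ ?_)
        · rw [pow_add, pow_mul]; exact L.pow_mem he _
        · rw [pow_add, mul_comm, pow_mul]; exact L.pow_mem hf _
      inv_mem' := by
        rintro a ⟨ha, e, he⟩
        exact ⟨K.inv_mem ha, e, by rw [inv_pow]; exact L.inv_mem he⟩ }
  have hLB : L ≤ B := fun l hl => ⟨hLK hl, 0, by simpa using hl⟩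
  have hBinv : Inv x B := by
    rintro b ⟨hb', e, he⟩
    exact ⟨hinv b hb', e, by rw [conj_pow]; exact hinv.commutator _ he⟩
  have hnorm : ∀ b ∈ B, ∀ l ∈ L, b * l * b⁻¹ ∈ L := by
    intro b hb' l hl
    have h1 : b * l * b⁻¹ * l⁻¹ ∈ L := Subgroup.commutator_mem_commutator hb'.1 (hLK hl)
    have := L.mul_mem h1 hl
    rwa [inv_mul_cancel_right] at this
  have hB : Good V p B :=
    good_step hX hLB hBinv hinv.commutator hnorm hLgood fun b hb' => hb'.2
  intro g hg he
  obtain ⟨e, he⟩ := he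
  exact hB g ⟨hg, e, he ▸ L.one_mem⟩ ⟨e, he⟩

/-- A group with scalar two-elements is solvable. -/
theorem solvable_of_good {K : Subgroup X} (h : Good V p K) : Group.IsSolvable K := by
  classical
  haveI : Fact (Nat.Prime 2) := ⟨Nat.prime_two⟩
  obtain ⟨T⟩ : Nonempty (Sylow 2 K) := inferInstance
  have hcen : (T : Subgroup K) ≤ Subgroup.center K := fun t ht => by
    refine Subgroup.mem_center_iff.2 fun g => Subtype.ext ?_
    obtain ⟨e, he⟩ := T.isPGroup' ⟨t, ht⟩
    exact (scal_commute hX (h _ t.2 ⟨e, congrArg (fun a : (T : Subgroup K) => ((a : K) : X)) he⟩)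
      (g : X)).symm
  haveI : (T : Subgroup K).Normal := ⟨fun t ht g => by
    rw [Subgroup.mem_center_iff.1 (hcen ht) g, mul_inv_cancel_right]; exact ht⟩
  have hodd : Odd (Nat.card (K ⧸ (T : Subgroup K))) := by
    rw [← Nat.not_even_iff_odd, even_iff_two_dvd]
    exact T.not_dvd_index
  haveI := Cfsg.Agent.S0205.result hodd
  haveI : Group.IsSolvable (T : Subgroup K) := by
    haveI : Group.IsNilpotent (T : Subgroup K) := T.isPGroup'.isNilpotent
    infer_instance
  exact Group.isSolvable_of_ker_le_range (T : Subgroup K).subtype (QuotientGroup.mk' (T : Subgroup K))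
    (by rw [QuotientGroup.ker_mk', Subgroup.range_subtype])

/-- A nonsolvable invariant subgroup contains the primitive element. -/
theorem mem_of_not_solvable {K : Subgroup X} (hinv : Inv x K) (hns : ¬ Group.IsSolvable K) :
    x ∈ K := by
  by_cases hr : r ∣ Nat.card K
  · obtain ⟨P, hP⟩ := exists_sylow_mem hX hinv hr
    exact Subgroup.map_subtype_le _ hP
  · exact absurd (solvable_of_good hX (good_of_not_dvd hX hinv hr)) hns

end CfsgLib.TripleOrbits.Linear
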