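import Mathlib
import Cfsg.Agent.TripleOrbits15.Good
import Cfsg.Agent.TripleOrbits15.Defs
import Cfsg.Agent.Suzuki.LieModel
import Cfsg.Agent.Suzuki.Zassenhaus
import Cfsg.Agent.Suzuki.TISubgroups

/-!
A normal subgroup of order prime to three of a linear group with an element of primitive prime order,
`k` odd, is solvable.
-/

set_option autoImplicit false
set_option linter.unusedSectionVars false
set_option linter.style.haveILetI false

namespace CfsgLib.TripleOrbits.Linear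

open CfsgLib.Suzuki (uElt tElt grp theta)

universe u

variable {X : Type u} [Group X] [Finite X] {V : Type*} [AddCommGroup V] [Finite V]
  [DistribMulAction X V] {p k r : ℕ} [hp : Fact p.Prime] [Module (ZMod p) V] {x : X}
  (hX : Hyp X V p k r x)

/-- An element with a two-power in the kernel has a two-power multiple with the same image. -/
theorem exists_two_elem {K Q : Type*} [Group K] [Finite K] [Group Q] (q : K →* Q) (b : K) {e : ℕ}
    (he : q b ^ 2 ^ e = 1) : ∃ n : ℕ, (∃ a : ℕ, (b ^ n) ^ 2 ^ a = 1) ∧ q (b ^ n) = q b := by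
  obtain ⟨a, w, hw, ho⟩ :=
    Nat.exists_eq_pow_mul_and_not_dvd (orderOf_pos b).ne' 2 (by norm_num)
  obtain ⟨s, -, hs⟩ := Nat.exists_mul_mod_eq_one_of_coprime (n := w) (k := 2 ^ (e + 1))
    (Nat.Coprime.pow_right _ (Nat.coprime_comm.1 (Nat.prime_two.coprime_iff_not_dvd.2 hw)))
    (Nat.one_lt_two_pow (by omega))
  refine ⟨w * s, ⟨a, ?_⟩, ?_⟩
  · rw [← pow_mul, show w * s * 2 ^ a = orderOf b * s by rw [ho]; ring, pow_mul, pow_orderOf_eq_one,
      one_pow]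
  · rw [map_pow]
    conv_rhs => rw [← pow_one (q b)]
    refine pow_eq_pow_iff_modEq.2 (Nat.ModEq.of_dvd ?_
      (show w * s ≡ 1 [MOD 2 ^ (e + 1)] by
        rw [Nat.ModEq, hs, Nat.one_mod_eq_one.2 (Nat.one_lt_two_pow (by omega)).ne']))
    exact (orderOf_dvd_of_pow_eq_one he).trans (pow_dvd_pow 2 (by omega))

include hX

/-- Elements normalising a commutative two-group with scalar squares, any two of which differ by
one producing the same involution, number at most `k`. -/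
theorem orbit_le (T : Subgroup X) (hT : ∀ a ∈ T, ∀ b ∈ T, a * b = b * a)
    (hsq : ∀ t ∈ T, t * t ∈ scal V p) {ι : Type*} [Fintype ι] (g : ι → X)
    (hg : ∀ i, ∀ t ∈ T, g i * t * (g i)⁻¹ ∈ T) (hg' : ∀ i, ∀ t ∈ T, (g i)⁻¹ * t * g i ∈ T)
    {a0 : X} (ha : a0 ∈ T) (ha2 : a0 * a0 = 1) (ha1 : a0 ≠ 1)
    (hpair : ∀ i j, i ≠ j → ∃ t ∈ T,
      (g i)⁻¹ * g j * t * ((g i)⁻¹ * g j)⁻¹ * t⁻¹ = a0) :
    Fintype.card ι ≤ k := by
  classical
  haveI := nontrivial hX
  have hsq' : ∀ t ∈ T, ∃ μ : ZMod p, ∀ v : V, t • t • v = (μ * μ) • v := by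
    intro t ht
    obtain ⟨c, hc0, hc⟩ := hsq t ht
    obtain ⟨m, hm⟩ := hX.odd
    have hd : dt V p t * dt V p t = c ^ k := by rw [← map_mul, dt_scal hX hc]
    refine ⟨dt V p t * (c ^ m)⁻¹, fun v => ?_⟩
    rw [← mul_smul, hc, mul_mul_mul_comm, hd, hm, ← mul_inv, ← pow_add, ← two_mul, pow_succ,
      mul_comm (c ^ (2 * m)) c, mul_assoc, mul_inv_cancel₀ (pow_ne_zero _ hc0), mul_one]
  let W : Submodule (ZMod p) V :=
    { carrier := {w | a0 • w = -w}
      zero_mem' := by simp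
      add_mem' := fun {a b} (h1 : a0 • a = -a) (h2 : a0 • b = -b) => by
        show a0 • (a + b) = -(a + b)
        rw [smul_add, h1, h2, neg_add]
      smul_mem' := fun c a (h1 : a0 • a = -a) => by
        show a0 • c • a = -(c • a)
        rw [smul_zmod, h1, smul_neg] }
  have hW : ∀ t ∈ T, ∀ w ∈ W, t • w ∈ W := by
    intro t ht w (hw : a0 • w = -w)
    show a0 • t • w = -(t • w)
    rw [← mul_smul, hT a0 ha t ht, mul_smul, hw, smul_neg]
  have hW0 : W ≠ ⊥ := by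
    obtain ⟨w, hw⟩ : ∃ w : V, a0 • w ≠ w := by
      by_contra h
      push Not at h
      exact ha1 (hX.faith a0 h)
    refine (Submodule.ne_bot_iff W).2 ⟨a0 • w - w, ?_, sub_ne_zero.2 hw⟩
    show a0 • (a0 • w - w) = -(a0 • w - w)
    rw [smul_sub, ← mul_smul, ha2, one_smul, neg_sub]
  obtain ⟨v, hvW, hv0, χ, hχ⟩ := exists_eig hX T hT hsq' W hW hW0
  let χs : ι → T → ZMod p := fun i t => χ ⟨(g i)⁻¹ * t * g i, hg' i t t.2⟩
  refine eig_card_le hX T hT χs (fun i j hij => ?_) (fun i => g i • v)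
    (fun i => (smul_eq_zero_iff_eq _).not.2 hv0) fun i t => by
      show (t : X) • g i • v = χs i t • g i • v
      rw [← smul_zmod, ← hχ, ← mul_smul, ← mul_smul]
      congr 1
      group
  by_contra hne
  obtain ⟨t, ht, hta⟩ := hpair i j hne
  set m := (g i)⁻¹ * g j with hm
  have hmt : m * t * m⁻¹ ∈ T := by
    have h := T.mul_mem ha ht
    rwa [← hta, inv_mul_cancel_right] at h
  have h := congrFun hij ⟨g i * (m * t * m⁻¹) * (g i)⁻¹, hg i _ hmt⟩
  have h1 : (g i)⁻¹ * (g i * (m * t * m⁻¹) * (g i)⁻¹) * g i = m * t * m⁻¹ := by group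
  have h2 : (g j)⁻¹ * (g i * (m * t * m⁻¹) * (g i)⁻¹) * g j = t := by rw [hm]; group
  change χ ⟨_, _⟩ = χ ⟨_, _⟩ at h
  simp only [h1, h2] at h
  have hv : a0 • v = v := by
    have e : m * t * m⁻¹ = a0 * t := by rw [← hta, inv_mul_cancel_right]
    have hu := hχ ⟨_, hmt⟩
    rw [h, ← hχ ⟨t, ht⟩] at hu
    change (m * t * m⁻¹) • v = t • v at hu
    rw [e, hT a0 ha t ht, mul_smul] at hu
    exact smul_left_cancel t hu
  have h3 : v = -v := hv.symm.trans hvW
  have h4 : (2 : ZMod p) • v = 0 := by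
    rw [show (2 : ZMod p) = 1 + 1 from one_add_one_eq_two.symm, add_smul, one_smul]
    exact eq_neg_iff_add_eq_zero.1 h3
  have h2p : (2 : ZMod p) ≠ 0 := fun h => hX.two (by
    have h' : ((2 : ℕ) : ZMod p) = 0 := by exact_mod_cast h
    rw [ZMod.natCast_eq_zero_iff] at h'
    exact (Nat.prime_dvd_prime_iff_eq hp.out Nat.prime_two).1 h')
  exact hv0 ((smul_eq_zero.1 h4).resolve_left h2p)

/-- A normal subgroup of order prime to three is solvable. -/
theorem solvable_of_three (hSz : ThreePrimeSimple.{u}) (D : Subgroup X) [D.Normal]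
    (h3 : ¬ 3 ∣ Nat.card D) : Group.IsSolvable D := by
  classical
  by_contra hns
  haveI : Fact (Nat.Prime 2) := ⟨Nat.prime_two⟩
  haveI := Fact.mk hX.prim.prime
  have hDinv : Inv x D := fun g hg => ‹D.Normal›.conj_mem g hg x
  have hxD := mem_of_not_solvable hX hDinv hns
  have hex : ∃ n, ∃ K : Subgroup X, K ≤ D ∧ x ∈ K ∧ ¬ Group.IsSolvable K ∧ Nat.card K = n :=
    ⟨_, D, le_rfl, hxD, hns, rfl⟩
  obtain ⟨K, hKD, hxK, hKns, hKc⟩ := Nat.find_spec hex
  have hmin : ∀ K' : Subgroup X, K' ≤ K → x ∈ K' → ¬ Group.IsSolvable K' → K' = K :=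
    fun K' hle hx' hns' => Subgroup.eq_of_le_of_card_ge hle
      (hKc ▸ Nat.find_min' hex ⟨K', hle.trans hKD, hx', hns', rfl⟩)
  have hKinv : Inv x K := fun g hg => K.mul_mem (K.mul_mem hxK hg) (K.inv_mem hxK)
  have hperf : commutator K = ⊤ := by
    by_contra hne
    have hns' : ¬ Group.IsSolvable (commutator K) := fun h => by
      haveI := h
      refine hKns (Group.isSolvable_of_ker_le_range (commutator K).subtype
        (Abelianization.of : K →* Abelianization K) ?_)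
      rw [Abelianization.ker_of, Subgroup.range_subtype]
    have hle : ⁅K, K⁆ ≤ K := Subgroup.commutator_le.2 fun a ha b hb' =>
      K.mul_mem (K.mul_mem (K.mul_mem ha hb') (K.inv_mem ha)) (K.inv_mem hb')
    have hns2 : ¬ Group.IsSolvable ↥(⁅K, K⁆) := by
      rw [← Subgroup.map_subtype_commutator K]
      intro h
      haveI := h
      exact hns' (Group.isSolvable_of_isSolvable_injective
        (f := ((commutator K).equivMapOfInjective _ K.subtype_injective).toMonoidHom)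
        ((commutator K).equivMapOfInjective _ K.subtype_injective).injective)
    have := hmin _ hle (mem_of_not_solvable hX hKinv.commutator hns2) hns2
    refine hne (Subgroup.map_injective K.subtype_injective ?_)
    rw [Subgroup.map_subtype_commutator, this, ← MonoidHom.range_eq_map, Subgroup.range_subtype]
  -- a maximal normal subgroup
  haveI : Nontrivial K := by
    rw [← not_subsingleton_iff_nontrivial]
    intro h
    exact hKns inferInstance
  obtain ⟨L, hL, hLmax⟩ := Set.Finite.exists_maximal (s := {N : Subgroup K | N.Normal ∧ N ≠ ⊤})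
    (Set.toFinite _) ⟨⊥, inferInstance, bot_ne_top⟩
  haveI := hL.1
  have hLtop : ∀ M : Subgroup K, M.Normal → L ≤ M → M = L ∨ M = ⊤ := fun M hM hle => by
    by_cases h : M = ⊤
    · exact Or.inr h
    · exact Or.inl (le_antisymm (hLmax ⟨hM, h⟩ hle) hle)
  set q := QuotientGroup.mk' L with hq
  have hqsurj : Function.Surjective q := QuotientGroup.mk'_surjective L
  haveI : Nontrivial (K ⧸ L) := by
    obtain ⟨a, ha⟩ : ∃ a : K, a ∉ L := by
      by_contra h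
      push Not at h
      exact hL.2 (eq_top_iff.2 fun a _ => h a)
    exact ⟨⟨q a, 1, fun h => ha ((QuotientGroup.eq_one_iff a).1 h)⟩⟩
  haveI hsimple : IsSimpleGroup (K ⧸ L) := ⟨fun M hM => by
    rcases hLtop (M.comap q) (hM.comap q) (fun a ha => by
      show q a ∈ M
      rw [show q a = 1 from (QuotientGroup.eq_one_iff a).2 ha]; exact M.one_mem) with h | h
    · refine Or.inl ((Subgroup.eq_bot_iff_forall M).2 fun y hy => ?_)
      obtain ⟨a, rfl⟩ := hqsurj y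
      exact (QuotientGroup.eq_one_iff a).2 (show a ∈ L from h ▸ hy)
    · exact Or.inr (eq_top_iff.2 fun y _ => by
        obtain ⟨a, rfl⟩ := hqsurj y
        exact (show a ∈ M.comap q from h ▸ Subgroup.mem_top a))⟩
  have hqperf : commutator (K ⧸ L) = ⊤ := by
    have h := Subgroup.map_commutator (⊤ : Subgroup K) ⊤ q
    rw [← commutator_def, hperf, Subgroup.map_top_of_surjective q hqsurj, ← commutator_def] at h
    exact h.symm
  have hna : ¬ IsMulCommutative (K ⧸ L) := fun h => by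
    have : commutator (K ⧸ L) = ⊥ := (Subgroup.commutator_eq_bot_iff_le_centralizer).2
      fun a _ b _ => h.is_comm.comm b a
    exact bot_ne_top (this.symm.trans hqperf)
  have hnsol : ¬ Group.IsSolvable (K ⧸ L) := fun h => by
    haveI := h
    exact (IsSolvable.commutator_lt_top_of_nontrivial (G := K ⧸ L)).ne hqperf
  -- the maximal normal subgroup is solvable
  set L' := L.map K.subtype with hL'
  have hL'K : L' ≤ K := Subgroup.map_subtype_le _
  haveI hLsol : Group.IsSolvable L' := by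
    set S := L ⊔ Subgroup.zpowers (⟨x, hxK⟩ : K) with hS
    have hStop : S ≠ ⊤ := by
      intro htop
      refine hna ⟨⟨fun a b => ?_⟩⟩
      have hcyc : ∀ y : K ⧸ L, y ∈ Subgroup.zpowers (q ⟨x, hxK⟩) := by
        intro y
        obtain ⟨a, rfl⟩ := hqsurj y
        have : q a ∈ S.map q := ⟨a, htop ▸ Subgroup.mem_top a, rfl⟩
        rwa [hS, Subgroup.map_sup, MonoidHom.map_zpowers, hq, (Subgroup.map_eq_bot_iff L).2
          (by rw [QuotientGroup.ker_mk']), bot_sup_eq] at this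
      obtain ⟨i, rfl⟩ := Subgroup.mem_zpowers_iff.1 (hcyc a)
      obtain ⟨j, rfl⟩ := Subgroup.mem_zpowers_iff.1 (hcyc b)
      exact (Commute.zpow_zpow_self _ i j).eq
    haveI : Group.IsSolvable ↥(S.map K.subtype) := by
      by_contra h
      have := hmin _ (Subgroup.map_subtype_le _) ⟨⟨x, hxK⟩,
        Subgroup.mem_sup_right (Subgroup.mem_zpowers _), rfl⟩ h
      refine hStop (Subgroup.map_injective K.subtype_injective ?_)
      rw [this, ← MonoidHom.range_eq_map, Subgroup.range_subtype]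
    exact Group.isSolvable_of_isSolvable_injective
      (Subgroup.inclusion_injective (Subgroup.map_mono (f := K.subtype)
        (show L ≤ S from le_sup_left)))
  have hLinv : Inv x L' := by
    rintro _ ⟨l, hl, rfl⟩
    exact ⟨⟨x, hxK⟩ * l * ⟨x, hxK⟩⁻¹, hL.1.conj_mem l hl _, rfl⟩
  have hLgood : Good V p L' := good_of_solvable hX L' hLinv
  have hnormal : ∀ b ∈ K, ∀ l ∈ L', b * l * b⁻¹ ∈ L' := by
    rintro b hb _ ⟨l, hl, rfl⟩
    exact ⟨⟨b, hb⟩ * l * ⟨b, hb⟩⁻¹, hL.1.conj_mem l hl _, rfl⟩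
  have hmemL : ∀ a : K, (a : X) ∈ L' ↔ a ∈ L := fun a =>
    ⟨fun ⟨b, hb, e⟩ => (Subtype.ext e : b = a) ▸ hb, fun h => ⟨a, h, rfl⟩⟩
  -- scalars are trivial in the quotient
  have hscal : ∀ z : K, (z : X) ∈ scal V p → q z = 1 := by
    intro z hz
    have hmem : q z ∈ Subgroup.center (K ⧸ L) := Subgroup.mem_center_iff.2 fun y => by
      obtain ⟨a, rfl⟩ := hqsurj y
      rw [← map_mul, ← map_mul]
      exact congrArg q (Subtype.ext (scal_commute hX hz (a : X)).symm)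
    rcases (inferInstance : (Subgroup.center (K ⧸ L)).Normal).eq_bot_or_eq_top with h | h
    · rw [h, Subgroup.mem_bot] at hmem; exact hmem
    · exact absurd ⟨⟨fun a b => (Subgroup.mem_center_iff.1
        (show b ∈ Subgroup.center (K ⧸ L) from h ▸ Subgroup.mem_top b) a)⟩⟩ hna
  have hxL : x ∉ L' := by
    intro hxL
    refine hnsol (@Cfsg.Agent.S0205.result (K ⧸ L) _ _ ?_)
    rw [← Nat.not_even_iff_odd, even_iff_two_dvd]
    intro hd
    obtain ⟨y, hy⟩ := exists_prime_orderOf_dvd_card' 2 hd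
    obtain ⟨b, rfl⟩ := hqsurj y
    have hb2 : (b : X) ^ 2 ^ 1 ∈ L' := by
      rw [pow_one, ← SubgroupClass.coe_pow, hmemL, ← QuotientGroup.eq_one_iff]
      show q (b ^ 2) = 1
      rw [map_pow, ← hy, pow_orderOf_eq_one]
    obtain ⟨z, hzs, hzK, -, hbz⟩ := exists_scal_of_mem hX hxL hL'K hnormal b.2 hb2
    have h1 : q (b * ⟨z, hzK⟩⁻¹) = 1 := (QuotientGroup.eq_one_iff _).2 ((hmemL _).1 hbz)
    rw [map_mul, map_inv, hscal ⟨z, hzK⟩ hzs, inv_one, mul_one] at h1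
    rw [h1, orderOf_one] at hy
    exact absurd hy (by norm_num)
  -- the quotient is a Suzuki group
  have h3K : ¬ 3 ∣ Nat.card (K ⧸ L) := fun h => h3 (h.trans
    ((Subgroup.card_quotient_dvd_card L).trans (Subgroup.card_dvd_of_le hKD)))
  obtain ⟨F, iF, iT, m, hm, hF, ⟨e⟩⟩ := hSz (K ⧸ L) hsimple hna h3K
  letI := iF
  letI := iT
  haveI := CfsgLib.Suzuki.charP_two hF
  have hT := CfsgLib.Suzuki.titsEndo_theta hm hF
  have hqF : Nat.card F = 2 ^ (2 * m + 1) := by rw [Nat.card_eq_fintype_card, hF]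
  let ψ : K ⧸ L ≃* grp (theta F m) :=
    e.trans ((CfsgLib.Suzuki.lieSzEquiv hm hF).symm.trans
      (MulEquiv.subgroupCongr CfsgLib.Suzuki.sz_eq))
  let π : K →* grp (theta F m) := ψ.toMonoidHom.comp q
  have hπL : ∀ a : K, π a = 1 ↔ (a : X) ∈ L' := fun a => by
    rw [hmemL, ← QuotientGroup.eq_one_iff]
    exact ⟨fun h => ψ.injective (h.trans (map_one ψ).symm), fun h =>
      show ψ (q a) = 1 by rw [show q a = 1 from h, map_one]⟩
  have hπsurj : Function.Surjective π := ψ.surjective.comp hqsurj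
  have hπscal : ∀ z : K, (z : X) ∈ scal V p → π z = 1 := fun z hz => by
    show ψ (q z) = 1; rw [hscal z hz, map_one]
  -- no two-group of the quotient is normalised by the image of `x`
  set ξ := π ⟨x, hxK⟩ with hξ
  have hξ1 : ξ ≠ 1 := fun h => hxL ((hπL _).1 h)
  have hξr : orderOf ξ = r := by
    rcases (Nat.dvd_prime hX.prim.prime).1 (hX.prim.ord ▸
      (show orderOf ξ ∣ orderOf x by
        rw [← Subgroup.orderOf_mk x hxK]
        exact orderOf_map_dvd π _)) with h | h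
    · exact absurd (orderOf_eq_one_iff.1 h) hξ1
    · exact h
  have hno : ∀ S : Subgroup (grp (theta F m)), IsPGroup 2 S → Inv ξ S → S = ⊥ := by
    intro S hS hSinv
    set B := (S.comap π).map K.subtype with hB
    have hBinv : Inv x B := by
      rintro _ ⟨b, hb, rfl⟩
      refine ⟨⟨x, hxK⟩ * b * ⟨x, hxK⟩⁻¹, ?_, rfl⟩
      show π (⟨x, hxK⟩ * b * ⟨x, hxK⟩⁻¹) ∈ S
      rw [map_mul, map_mul, map_inv]
      exact hSinv _ hb
    have hLB : L' ≤ B := by
      intro l hl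
      refine ⟨⟨l, hL'K hl⟩, ?_, rfl⟩
      show π ⟨l, hL'K hl⟩ ∈ S
      rw [(hπL _).2 hl]; exact S.one_mem
    have hgood : Good V p B := good_step hX hLB hBinv hLinv
      (fun b hb => hnormal b (Subgroup.map_subtype_le _ hb)) hLgood (by
      rintro _ ⟨b, hb, rfl⟩
      obtain ⟨j, hj⟩ := hS ⟨π b, hb⟩
      refine ⟨j, (hπL (b ^ 2 ^ j)).1 ?_⟩
      rw [map_pow]; exact congrArg Subtype.val hj)
    refine (Subgroup.eq_bot_iff_forall S).2 fun y hy => ?_
    obtain ⟨b, rfl⟩ := hπsurj y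
    obtain ⟨j, hj⟩ := hS ⟨π b, hy⟩
    obtain ⟨n, ⟨a, ha⟩, hn⟩ := exists_two_elem π b (congrArg Subtype.val hj)
    rw [← hn]
    exact hπscal _ (hgood _ ⟨b ^ n, show π (b ^ n) ∈ S by rw [hn]; exact hy, rfl⟩
      ⟨a, congrArg Subtype.val ha⟩)
  -- the bound on `r`
  have hrodd : r ≠ 2 := by
    have := hX.prim.big' hX.odd
    have := k_pos hX
    omega
  have hr_q1 : ¬ r ∣ Nat.card F - 1 := by
    intro hd
    obtain ⟨S, hcN, hidx, -, -⟩ := CfsgLib.Suzuki.coset_action hT (MulEquiv.refl (grp (theta F m)))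
    set N := Subgroup.normalizer ((S : Subgroup (grp (theta F m))) : Set (grp (theta F m)))
    have hnd : ¬ r ∣ Nat.card (grp (theta F m) ⧸ N) := by
      rw [← Subgroup.index_eq_card, hidx]
      intro h
      have h1 : r ∣ Nat.card F ^ 2 - 1 := hd.trans (by
        simpa using Nat.sub_dvd_pow_sub_pow (Nat.card F) 1 2 |>.trans (dvd_refl _))
      have h2 := Nat.dvd_sub h h1
      rw [show Nat.card F ^ 2 + 1 - (Nat.card F ^ 2 - 1) = 2 by
        have : 0 < Nat.card F ^ 2 := pow_pos Nat.card_pos 2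
        omega] at h2
      exact hrodd ((Nat.prime_dvd_prime_iff_eq hX.prim.prime Nat.prime_two).1 h2)
    obtain ⟨y, hy⟩ := (IsPGroup.of_card (n := 1) (by rw [Nat.card_zpowers, hξr, pow_one]) :
      IsPGroup r (Subgroup.zpowers ξ)).nonempty_fixed_point_of_prime_not_dvd_card _ hnd
    obtain ⟨g, rfl⟩ := QuotientGroup.mk_surjective y
    have hξg : g⁻¹ * ξ * g ∈ N := by
      have h := hy ⟨ξ, Subgroup.mem_zpowers ξ⟩
      change ((ξ * g : grp (theta F m)) : grp (theta F m) ⧸ N) = g at h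
      rw [QuotientGroup.eq] at h
      have h' := N.inv_mem h
      rwa [mul_inv_rev, inv_inv, ← mul_assoc] at h'
    have hbot := hno ((S : Subgroup _).map (MulAut.conj g).toMonoidHom) (S.isPGroup'.map _) (by
      rintro _ ⟨s, hs, rfl⟩
      refine ⟨_, (Subgroup.mem_normalizer_iff.1 hξg s).1 hs, ?_⟩
      simp only [MulEquiv.coe_toMonoidHom, MulAut.conj_apply]
      group)
    rw [Subgroup.map_eq_bot_iff_of_injective _ (MulAut.conj g).injective] at hbot
    have hNtop : N = ⊤ := by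
      show Subgroup.normalizer ((S : Subgroup (grp (theta F m))) : Set (grp (theta F m))) = ⊤
      rw [hbot]; exact Subgroup.normalizer_eq_top _
    rw [hNtop, Subgroup.index_top] at hidx
    have : 0 < Nat.card F ^ 2 := pow_pos Nat.card_pos 2
    omega
  have hrle : r ≤ 2 ^ (2 * m + 1) + 2 ^ (m + 1) + 1 := by
    have h1 : r ∣ Nat.card (grp (theta F m)) := hξr ▸ orderOf_dvd_natCard ξ
    rw [CfsgLib.Suzuki.card_grp hT] at h1
    rcases (Nat.Prime.dvd_mul hX.prim.prime).1 h1 with h1 | h1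
    swap
    · exact absurd h1 hr_q1
    rcases (Nat.Prime.dvd_mul hX.prim.prime).1 h1 with h1 | h1
    · exfalso
      rw [hqF, ← pow_mul] at h1
      exact hrodd ((Nat.prime_dvd_prime_iff_eq hX.prim.prime Nat.prime_two).1
        (hX.prim.prime.dvd_of_dvd_pow h1))
    rw [hqF] at h1
    have hq2 : 2 ^ (2 * m + 1) = 2 * (2 ^ m) ^ 2 := by rw [← pow_mul, pow_succ']; ring_nf
    have ha : 2 ^ (m + 1) = 2 * 2 ^ m := by rw [pow_succ']
    rw [hq2] at h1
    rw [hq2, ha]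
    generalize 2 ^ m = a at h1 ⊢
    have hfac : (2 * a ^ 2) ^ 2 + 1 = (2 * a ^ 2 + 2 * a + 1) * (2 * a ^ 2 + 1 - 2 * a) := by
      have : 2 * a ≤ 2 * a ^ 2 + 1 := by nlinarith
      zify [this]
      ring
    rw [hfac] at h1
    rcases (Nat.Prime.dvd_mul hX.prim.prime).1 h1 with h1 | h1
    · exact Nat.le_of_dvd (by positivity) h1
    · have hpos : 0 < 2 * a ^ 2 + 1 - 2 * a := by
        rcases Nat.eq_zero_or_pos a with rfl | h
        · norm_num
        · have : 2 * a ≤ 2 * a ^ 2 := by nlinarith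
          omega
      exact (Nat.le_of_dvd hpos h1).trans (by omega)
  -- the bound on `k`
  let z : F → grp (theta F m) := fun b => uElt hT 0 b
  have hz : ∀ a b, z a * z b = z (a + b) := fun a b => by
    show uElt hT 0 a * uElt hT 0 b = uElt hT 0 (a + b)
    rw [CfsgLib.Suzuki.uElt_mul, map_zero, zero_mul, add_zero, add_zero]
  have hz0 : z 0 = 1 := CfsgLib.Suzuki.uElt_zero hT
  have hzinj : ∀ a b, z a = z b → a = b := fun a b h => ((CfsgLib.Suzuki.uElt_inj hT).1 h).2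
  let Z : Subgroup (grp (theta F m)) :=
    { carrier := Set.range z
      one_mem' := ⟨0, hz0⟩
      mul_mem' := by rintro _ _ ⟨a, rfl⟩ ⟨b, rfl⟩; exact ⟨a + b, (hz a b).symm⟩
      inv_mem' := by
        rintro _ ⟨a, rfl⟩
        exact ⟨-a, eq_inv_of_mul_eq_one_left (by rw [hz, neg_add_cancel, hz0])⟩ }
  set B := Z.comap π with hBdef
  obtain ⟨P⟩ : Nonempty (Sylow 2 B) := inferInstance
  set T := ((P : Subgroup B).map B.subtype).map K.subtype with hTdef
  have hTB : ∀ t ∈ T, ∃ b : F, ∃ ht : t ∈ K, π ⟨t, ht⟩ = z b := by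
    rintro _ ⟨t, ⟨t', ht', rfl⟩, rfl⟩
    obtain ⟨b, hb⟩ := t'.2
    exact ⟨b, (t' : K).2, hb.symm⟩
  have hTtwo : ∀ t ∈ T, ∃ e : ℕ, t ^ 2 ^ e = 1 := by
    rintro _ ⟨t, ⟨t', ht', rfl⟩, rfl⟩
    obtain ⟨j, hj⟩ := P.isPGroup' ⟨t', ht'⟩
    exact ⟨j, congrArg (fun a : (P : Subgroup B) => (((a : B) : K) : X)) hj⟩
  have hker : ∀ t ∈ T, ∀ ht : t ∈ K, π ⟨t, ht⟩ = 1 → t ∈ scal V p := fun t hT' ht h =>
    hLgood t ((hπL _).1 h) (hTtwo t hT')
  have hTK : ∀ t ∈ T, t ∈ K := fun t ht => (hTB t ht).choose_spec.choose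
  have hcomm : ∀ a ∈ T, ∀ b ∈ T, a * b = b * a := by
    intro a ha b hb
    have hc := T.mul_mem (T.mul_mem (T.mul_mem ha hb) (T.inv_mem ha)) (T.inv_mem hb)
    obtain ⟨i, hai, hi⟩ := hTB a ha
    obtain ⟨j, hbj, hj⟩ := hTB b hb
    have h1 : π ⟨a * b * a⁻¹ * b⁻¹, hTK _ hc⟩ = 1 := by
      rw [show (⟨a * b * a⁻¹ * b⁻¹, hTK _ hc⟩ : K) =
        ⟨a, hai⟩ * ⟨b, hbj⟩ * ⟨a, hai⟩⁻¹ * ⟨b, hbj⟩⁻¹ from rfl, map_mul, map_mul, map_mul, map_inv,
        map_inv, hi, hj, hz, add_comm i j, ← hz, mul_inv_cancel_right, mul_inv_cancel]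
    obtain ⟨e, he⟩ := hTtwo _ hc
    have := scal_eq_one hX (hker _ hc _ h1) (dt_comm a b) he
    rwa [mul_inv_eq_one, mul_inv_eq_iff_eq_mul] at this
  have h2F : ∀ a : F, a + a = 0 := fun a => CharTwo.add_self_eq_zero a
  have hsq : ∀ t ∈ T, t * t ∈ scal V p := by
    intro t ht
    obtain ⟨i, hti, hi⟩ := hTB t ht
    refine hker _ (T.mul_mem ht ht) (K.mul_mem hti hti) ?_
    rw [show (⟨t * t, K.mul_mem hti hti⟩ : K) = ⟨t, hti⟩ * ⟨t, hti⟩ from rfl, map_mul, hi, hz, h2F,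
      hz0]
  -- the two-group maps onto the centre
  have honto : ∀ b : F, ∃ t ∈ T, ∃ ht : t ∈ K, π ⟨t, ht⟩ = z b := by
    intro b
    obtain ⟨a, ha⟩ := hπsurj (z b)
    have haB : a ∈ B := ⟨b, ha.symm⟩
    obtain ⟨n, ⟨j, hj⟩, hn⟩ := exists_two_elem (π.comp B.subtype) ⟨a, haB⟩ (e := 1) (by
      show π a ^ 2 ^ 1 = 1
      rw [ha, pow_one, pow_two, hz, h2F, hz0])
    have hQ : IsPGroup 2 (Subgroup.zpowers ((⟨a, haB⟩ : B) ^ n)) := by
      obtain ⟨i, -, hi⟩ := (Nat.dvd_prime_pow Nat.prime_two).1 (orderOf_dvd_of_pow_eq_one hj)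
      exact IsPGroup.of_card (n := i) (by rw [Nat.card_zpowers, hi])
    obtain ⟨Q, hQ'⟩ := hQ.exists_le_sylow
    obtain ⟨c, rfl⟩ := MulAction.exists_smul_eq B P Q
    have h1 := hQ' (Subgroup.mem_zpowers _)
    rw [Sylow.coe_subgroup_smul] at h1
    obtain ⟨t, ht, hct⟩ := h1
    refine ⟨((t : K) : X), ⟨(t : K), ⟨t, ht, rfl⟩, rfl⟩, (t : K).2, ?_⟩
    have h2 : π ((c : K) * (t : K) * (c : K)⁻¹) = z b := by
      have h3 : (c : K) * (t : K) * (c : K)⁻¹ = (((⟨a, haB⟩ : B) ^ n : B) : K) :=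
        congrArg Subtype.val hct
      rw [h3]
      exact hn.trans ha
    obtain ⟨i, hi⟩ := c.2
    obtain ⟨j, hj'⟩ := t.2
    rw [map_mul, map_mul, map_inv, ← hi, ← hj', hz, add_comm i j, ← hz, mul_inv_cancel_right] at h2
    show π (t : K) = z b
    rw [← hj', h2]
  -- lifts of the torus
  have hlift : ∀ μ : Fˣ, ∃ g : K, (∀ t ∈ T, (g : X) * t * (g : X)⁻¹ ∈ T) ∧
      ∀ b : F, π g * z b * (π g)⁻¹ = z ((μ : F) * b) := by
    intro μ
    obtain ⟨τ, hτ⟩ := CfsgLib.Suzuki.exists_multiplier hT (μ := (μ : F)) μ.ne_zero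
    obtain ⟨g0, hg0⟩ := hπsurj (tElt hT τ)
    have hconj : ∀ b : F, π g0 * z b * (π g0)⁻¹ = z ((μ : F) * b) := fun b => by
      rw [hg0]
      show tElt hT τ * uElt hT 0 b * (tElt hT τ)⁻¹ = uElt hT 0 ((μ : F) * b)
      rw [CfsgLib.Suzuki.tElt_conj_central, hτ]
    have hgB : ∀ a : K, a ∈ B → g0 * a * g0⁻¹ ∈ B := by
      rintro a ⟨b, hb⟩
      refine ⟨(μ : F) * b, ?_⟩
      rw [map_mul, map_mul, map_inv, ← hb, hconj]
    have hgB' : ∀ a : K, a ∈ B → g0⁻¹ * a * g0 ∈ B := by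
      rintro a ⟨b, hb⟩
      refine ⟨((μ⁻¹ : Fˣ) : F) * b, ?_⟩
      rw [map_mul, map_mul, map_inv, ← hb]
      have := hconj (((μ⁻¹ : Fˣ) : F) * b)
      rw [← mul_assoc, μ.mul_inv, one_mul] at this
      rw [← this]
      group
    let cg : B ≃* B :=
      { toFun := fun a => ⟨g0 * a * g0⁻¹, hgB a a.2⟩
        invFun := fun a => ⟨g0⁻¹ * a * g0, hgB' a a.2⟩
        left_inv := fun a => Subtype.ext (by simp [mul_assoc])
        right_inv := fun a => Subtype.ext (by simp [mul_assoc])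
        map_mul' := fun a b => Subtype.ext (by simp [mul_assoc]) }
    obtain ⟨l, hl⟩ := MulAction.exists_smul_eq B ((cg : MulAut B) • P) P
    refine ⟨(l : K) * g0, ?_, fun b => ?_⟩
    · rintro _ ⟨a, ⟨a', ha', rfl⟩, rfl⟩
      have h1 : (cg : MulAut B) a' ∈ (((cg : MulAut B) • P : Sylow 2 B) : Subgroup B) := by
        rw [Sylow.pointwise_smul_def]
        exact Subgroup.smul_mem_pointwise_smul _ (cg : MulAut B) _ ha'
      have h2 : l * cg a' * l⁻¹ ∈ ((l • ((cg : MulAut B) • P) : Sylow 2 B) : Subgroup B) := by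
        rw [Sylow.coe_subgroup_smul]
        exact Subgroup.smul_mem_pointwise_smul _ (MulAut.conj l) _ h1
      rw [hl] at h2
      refine ⟨_, ⟨_, h2, rfl⟩, ?_⟩
      show ((l : K) : X) * ((g0 : X) * ((a' : K) : X) * (g0 : X)⁻¹) * ((l : K) : X)⁻¹ =
        (((l : K) : X) * g0) * ((a' : K) : X) * (((l : K) : X) * g0)⁻¹
      rw [mul_inv_rev]
      simp only [mul_assoc]
    · obtain ⟨i, hi⟩ := l.2
      rw [map_mul, ← hi, mul_inv_rev, show z i * π g0 * z b * ((π g0)⁻¹ * (z i)⁻¹) =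
        z i * (π g0 * z b * (π g0)⁻¹) * (z i)⁻¹ by simp only [mul_assoc], hconj, hz, add_comm, ← hz,
        mul_inv_cancel_right]
  choose g hgT hgz using hlift
  have hgT' : ∀ μ, ∀ t ∈ T, (g μ : X)⁻¹ * t * g μ ∈ T := by
    intro μ t ht
    have hmap : T.map (MulAut.conj (g μ : X)).toMonoidHom = T := by
      refine Subgroup.eq_of_le_of_card_ge (by rintro _ ⟨a, ha, rfl⟩; exact hgT μ a ha) ?_
      exact (Subgroup.card_map_of_injective (f := (MulAut.conj (g μ : X)).toMonoidHom)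
        (MulAut.conj (g μ : X)).injective).ge
    obtain ⟨a, ha, rfl⟩ : t ∈ T.map (MulAut.conj (g μ : X)).toMonoidHom := hmap.symm ▸ ht
    simpa [mul_assoc] using ha
  -- commutators
  have hcm : ∀ μ ν : Fˣ, ∀ t ∈ T, ∀ (ht : t ∈ K) (b : F), π ⟨t, ht⟩ = z b →
      ((g μ : X)⁻¹ * g ν * t * ((g μ : X)⁻¹ * g ν)⁻¹ * t⁻¹ ∈ T) ∧
      ∀ hcK : ((g μ : X)⁻¹ * g ν * t * ((g μ : X)⁻¹ * g ν)⁻¹ * t⁻¹) ∈ K,
      π ⟨_, hcK⟩ = z ((((μ⁻¹ * ν : Fˣ) : F) - 1) * b) := by
    intro μ ν t htT ht b hb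
    refine ⟨?_, fun hcK => ?_⟩
    · refine T.mul_mem ?_ (T.inv_mem htT)
      have := hgT' μ _ (hgT ν t htT)
      simpa only [mul_inv_rev, inv_inv, mul_assoc] using this
    · rw [show (⟨_, hcK⟩ : K) = (g μ)⁻¹ * g ν * ⟨t, ht⟩ * ((g μ)⁻¹ * g ν)⁻¹ * ⟨t, ht⟩⁻¹ from rfl]
      have h1 : (π (g μ))⁻¹ * z ((ν : F) * b) * π (g μ) = z (((μ⁻¹ * ν : Fˣ) : F) * b) := by
        have h := hgz μ (((μ⁻¹ * ν : Fˣ) : F) * b)
        rw [← mul_assoc, ← Units.val_mul, mul_inv_cancel_left] at h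
        rw [← h]
        group
      simp only [map_mul, map_inv, hb, mul_inv_rev, inv_inv]
      rw [show (π (g μ))⁻¹ * π (g ν) * z b * ((π (g ν))⁻¹ * π (g μ)) * (z b)⁻¹ =
        (π (g μ))⁻¹ * (π (g ν) * z b * (π (g ν))⁻¹) * π (g μ) * (z b)⁻¹ by
          simp only [mul_assoc], hgz, h1, mul_inv_eq_iff_eq_mul, hz, sub_one_mul, sub_add_cancel]
  have hcsq : ∀ μ ν : Fˣ, ∀ t ∈ T, ((g μ : X)⁻¹ * g ν * t * ((g μ : X)⁻¹ * g ν)⁻¹ * t⁻¹) *
      ((g μ : X)⁻¹ * g ν * t * ((g μ : X)⁻¹ * g ν)⁻¹ * t⁻¹) = 1 := by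
    intro μ ν t ht
    obtain ⟨b, htK, hb⟩ := hTB t ht
    set n := (g μ : X)⁻¹ * g ν
    have hmt : n * t * n⁻¹ ∈ T := by
      have := T.mul_mem (hcm μ ν t ht htK b hb).1 ht
      rwa [inv_mul_cancel_right] at this
    have h1 := scal_commute hX (hsq t ht) n
    calc n * t * n⁻¹ * t⁻¹ * (n * t * n⁻¹ * t⁻¹)
        = n * t * n⁻¹ * (n * t * n⁻¹) * (t⁻¹ * t⁻¹) := by
          rw [mul_assoc (n * t * n⁻¹) t⁻¹, ← mul_assoc t⁻¹ (n * t * n⁻¹),
            hcomm t⁻¹ (T.inv_mem ht) _ hmt, ← mul_assoc (n * t * n⁻¹), ← mul_assoc (n * t * n⁻¹)]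
          simp only [mul_assoc]
      _ = n * (t * t) * n⁻¹ * (t * t)⁻¹ := by group
      _ = 1 := by rw [← h1, mul_inv_cancel_right, mul_inv_cancel]
  -- the involution
  obtain ⟨μ₀, hμ₀⟩ : ∃ μ : Fˣ, μ ≠ 1 := by
    obtain ⟨c, hc0, hc1⟩ := hT.big
    exact ⟨Units.mk0 c hc0, fun h => hc1 (congrArg Units.val h)⟩
  have hne : ∀ μ : Fˣ, μ ≠ 1 → (μ : F) - 1 ≠ 0 := fun μ h =>
    sub_ne_zero.2 fun e => h (Units.ext e)
  obtain ⟨t₀, ht₀, ht₀K, ht₀z⟩ := honto ((((1⁻¹ * μ₀ : Fˣ) : F) - 1)⁻¹)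
  obtain ⟨ha0T, ha0z⟩ := hcm 1 μ₀ t₀ ht₀ ht₀K _ ht₀z
  set a0 := (g 1 : X)⁻¹ * g μ₀ * t₀ * ((g 1 : X)⁻¹ * g μ₀)⁻¹ * t₀⁻¹ with ha0
  have ha0z' := ha0z (hTK _ ha0T)
  rw [mul_inv_cancel₀ (hne _ (by rwa [inv_one, one_mul]))] at ha0z'
  have hqk : Fintype.card Fˣ ≤ k := by
    refine orbit_le hX T hcomm hsq (fun μ => (g μ : X)) hgT hgT' ha0T (hcsq 1 μ₀ t₀ ht₀) ?_ ?_
    · intro h
      have h1 : (⟨a0, hTK _ ha0T⟩ : K) = 1 := Subtype.ext h
      rw [h1, map_one, ← hz0] at ha0z'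
      exact one_ne_zero (hzinj _ _ ha0z'.symm)
    · intro μ ν hμν
      have hne' : μ⁻¹ * ν ≠ 1 := fun h => hμν (inv_mul_eq_one.1 h)
      obtain ⟨t, ht, htK, htz⟩ := honto ((((μ⁻¹ * ν : Fˣ) : F) - 1)⁻¹)
      obtain ⟨hcT, hcz⟩ := hcm μ ν t ht htK _ htz
      refine ⟨t, ht, ?_⟩
      set c := (g μ : X)⁻¹ * g ν * t * ((g μ : X)⁻¹ * g ν)⁻¹ * t⁻¹ with hc
      have hcz' := hcz (hTK _ hcT)
      rw [mul_inv_cancel₀ (hne _ hne')] at hcz'
      have hd : π ⟨c * a0⁻¹, K.mul_mem (hTK _ hcT) (K.inv_mem (hTK _ ha0T))⟩ = 1 := by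
        rw [show (⟨c * a0⁻¹, _⟩ : K) = ⟨c, hTK _ hcT⟩ * ⟨a0, hTK _ ha0T⟩⁻¹ from rfl, map_mul,
          map_inv, hcz', ha0z', mul_inv_cancel]
      have hdt : dt V p (c * a0⁻¹) = 1 := by
        have h1 : dt V p c = 1 := dt_comm _ _
        have h2 : dt V p a0 = 1 := dt_comm _ _
        rw [map_mul, h1, one_mul]
        have := map_mul (dt V p) a0 a0⁻¹
        rw [mul_inv_cancel, map_one, h2, one_mul] at this
        exact this.symm
      obtain ⟨e', he'⟩ := hTtwo _ (T.mul_mem hcT (T.inv_mem ha0T))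
      exact mul_inv_eq_one.1 (scal_eq_one hX
        (hker _ (T.mul_mem hcT (T.inv_mem ha0T)) _ hd) hdt he')
  -- the contradiction
  rw [Fintype.card_units, hF] at hqk
  have hbig := hX.prim.big' hX.odd
  have hm2 : 2 ^ (2 * m + 1) = 2 * 2 ^ m * 2 ^ m := by rw [← pow_succ', ← pow_add]; ring_nf
  have hm1 : 2 ^ (m + 1) = 2 * 2 ^ m := by rw [pow_succ']
  have h2m : 2 ≤ 2 ^ m := Nat.le_self_pow (by omega) 2
  rw [hm2] at hqk hrle
  rw [hm1] at hrle
  have : 4 * 2 ^ m ≤ 2 * 2 ^ m * 2 ^ m := by nlinarith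
  omega

end CfsgLib.TripleOrbits.Linear
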