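import Mathlib
import Cfsg.Agent.TripleOrbits15.Primitive
import Cfsg.Agent.TripleOrbits15.Scalars
import Cfsg.Agent.Constrained.Fitting
import Cfsg.Agent.SuzukiAut.Out

/-!
Solvable normal subgroups of transitive linear groups of odd degree.
-/

set_option autoImplicit false
set_option linter.unusedSectionVars false
set_option linter.style.haveILetI false

namespace CfsgLib.TripleOrbits

open Cfsg

variable {X : Type*} [Group X] [Finite X] {V : Type*} [AddCommGroup V] [Finite V]
  [DistribMulAction X V] {p k : ℕ}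

/-- The Fitting subgroup of `D`, inside `X`. -/
def fitIn (D : Subgroup X) : Subgroup X := (fittingSubgroup ↥D).map D.subtype

theorem fitIn_le (D : Subgroup X) : fitIn D ≤ D := Subgroup.map_subtype_le _

instance fitIn_normal (D : Subgroup X) [D.Normal] : (fitIn D).Normal :=
  ConjAct.normal_of_characteristic_of_normal

/-- The Fitting subgroup of a normal subgroup is cyclic and semiregular. -/
theorem fitIn_cyclic [Fact p.Prime] (hp2 : p ≠ 2) (hV : Nat.card V = p ^ k) (hk : Odd k)
    (hf : ∀ x : X, (∀ v : V, x • v = v) → x = 1)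
    (htr : ∀ u v : V, u ≠ 0 → v ≠ 0 → ∃ x : X, x • u = v) (D : Subgroup X) [D.Normal] :
    IsCyclic ↥(fitIn D) ∧ ∀ g ∈ fitIn D, ∀ v : V, v ≠ 0 → g • v = v → g = 1 := by
  classical
  haveI hnil : Group.IsNilpotent ↥(fitIn D) :=
    Group.nilpotent_of_surjective _ (MonoidHom.subgroupMap_surjective D.subtype (fittingSubgroup ↥D))
  have hS : ∀ (s : ℕ) [Fact s.Prime] (P : Sylow s ↥(fitIn D)),
      IsCyclic (P : Subgroup ↥(fitIn D)) ∧ ∀ g ∈ (P : Subgroup ↥(fitIn D)), ∀ v : V, v ≠ 0 →
        (g : X) • v = v → g = 1 := by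
    intro s _ P
    haveI hPn : (P : Subgroup ↥(fitIn D)).Normal :=
      ((Group.isNilpotent_of_finite_tfae (G := ↥(fitIn D))).out 0 3 rfl rfl).mp hnil s inferInstance P
    haveI : (P : Subgroup ↥(fitIn D)).Characteristic := Sylow.characteristic_of_normal P hPn
    have hp' : IsPGroup s ↥((P : Subgroup ↥(fitIn D)).map (fitIn D).subtype) :=
      P.isPGroup'.map _
    haveI : ((P : Subgroup ↥(fitIn D)).map (fitIn D).subtype).Normal :=
      ConjAct.normal_of_characteristic_of_normal
    obtain ⟨hc, hs⟩ := isCyclic_normal_pSubgroup (V := V) hp2 hV hk hf htr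
      ((P : Subgroup ↥(fitIn D)).map (fitIn D).subtype) hp'
    exact ⟨((P : Subgroup ↥(fitIn D)).equivMapOfInjective _ (fitIn D).subtype_injective).isCyclic.2
      hc, fun g hg v hv hgv => Subtype.ext (hs _ ⟨g, hg, rfl⟩ v hv hgv)⟩
  haveI : IsZGroup ↥(fitIn D) := ⟨fun s hs P => by haveI := Fact.mk hs; exact (hS s P).1⟩
  refine ⟨inferInstance, fun g hg v hv hgv => ?_⟩
  by_contra hne
  set g' : ↥(fitIn D) := ⟨g, hg⟩ with hg'
  obtain ⟨s, hs, hdvd⟩ := Nat.exists_prime_and_dvd (show orderOf g' ≠ 1 from fun h =>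
    hne (congrArg Subtype.val (orderOf_eq_one_iff.1 h)))
  haveI := Fact.mk hs
  set h := g' ^ (orderOf g' / s) with hh
  have hord : orderOf h = s := by
    rw [hh, orderOf_pow_orderOf_div (orderOf_pos g').ne' hdvd]
  obtain ⟨P, hP⟩ := (IsPGroup.of_card (n := 1) (by rw [Nat.card_zpowers, hord, pow_one]) :
    IsPGroup s (Subgroup.zpowers h)).exists_le_sylow
  have h1 := (hS s P).2 h (hP (Subgroup.mem_zpowers h)) v hv (by
    rw [hh, SubgroupClass.coe_pow]
    exact Subgroup.pow_mem (MulAction.stabilizer X v) (show g ∈ MulAction.stabilizer X v from hgv) _)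
  rw [h1, orderOf_one] at hord
  exact hs.ne_one hord.symm

theorem centralizes_fitIn {D : Subgroup X} [Group.IsSolvable ↥D] {d : X} (hd : d ∈ D)
    (h : ∀ c ∈ fitIn D, d * c = c * d) : d ∈ fitIn D := by
  have hle := CfsgLib.Constrained.solvable_le_fitting_of_normalized
    (Subgroup.centralizer (fittingSubgroup ↥D : Set ↥D)) le_rfl Subgroup.le_normalizer
  exact ⟨⟨d, hd⟩, hle (Subgroup.mem_centralizer_iff.2 fun c hc =>
    Subtype.ext (h c ⟨c, hc, rfl⟩).symm), rfl⟩

/-- Either the Fitting subgroup of `D` is irreducible, or `D` is semiregular and small. -/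
theorem solvable_case [Fact p.Prime] (hp2 : p ≠ 2) (hV : Nat.card V = p ^ k) (hk : Odd k)
    (hf : ∀ x : X, (∀ v : V, x • v = v) → x = 1)
    (htr : ∀ u v : V, u ≠ 0 → v ≠ 0 → ∃ x : X, x • u = v) (D : Subgroup X) [D.Normal]
    [Group.IsSolvable ↥D] :
    (∃ (F : Type) (_ : Field F) (_ : Fintype F) (_ : Scalars X V (fitIn D) F),
      Nat.card F = Nat.card V) ∨
    ((∀ g ∈ D, ∀ v : V, v ≠ 0 → g • v = v → g = 1) ∧ 2 * Nat.card D < Nat.card V - 1) := by
  classical
  have hp := (Fact.out : p.Prime)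
  have hk0 : k ≠ 0 := fun h => by simp [h] at hk
  haveI : Nontrivial V := Finite.one_lt_card_iff_nontrivial.1 (by
    rw [hV]; exact Nat.one_lt_pow hk0 hp.one_lt)
  obtain ⟨hcyc, hsemi⟩ := fitIn_cyclic (V := V) hp2 hV hk hf htr D
  haveI := hcyc
  have hcomm : ∀ a ∈ fitIn D, ∀ b ∈ fitIn D, a * b = b * a := fun a ha b hb => by
    letI := IsCyclic.commGroup (α := ↥(fitIn D))
    exact congrArg Subtype.val (mul_comm (⟨a, ha⟩ : ↥(fitIn D)) ⟨b, hb⟩)
  obtain ⟨F, iF, iT, ⟨S⟩⟩ := exists_scalars (C := fitIn D) hcomm htr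
  obtain ⟨a, ha⟩ := S.exists_card_pow
  by_cases ha1 : a = 1
  · exact Or.inl ⟨F, iF, iT, S, by rw [ha, ha1, pow_one]⟩
  right
  obtain ⟨q, hq⟩ := CharP.exists F
  obtain ⟨⟨b, hb0⟩, hqp, hF⟩ := FiniteField.card F q
  have hFq : Nat.card F = q ^ b := by rw [Nat.card_eq_fintype_card, hF]; rfl
  rw [hFq, ← pow_mul, hV] at ha
  obtain rfl : p = q := by
    have h1 : p ∣ q ^ (b * a) := ha ▸ dvd_pow_self p hk0
    exact (Nat.prime_dvd_prime_iff_eq hp hqp).1 (hp.dvd_of_dvd_pow h1)
  have hkab : k = b * a := Nat.pow_right_injective hp.two_le ha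
  have hodd := hkab ▸ hk
  rw [Nat.odd_mul] at hodd
  have ha3 : 3 ≤ a := by obtain ⟨m, hm⟩ := hodd.2; omega
  have hbk : b < k := by rw [hkab]; exact lt_mul_of_one_lt_right hb0 (by omega)
  haveI := hq
  have haut : Nat.card (F ≃+* F) = b := CfsgLib.SuzukiAut.card_ringAut (p := p) (n := b) hF
  haveI : Finite (F ≃+* F) := Finite.of_injective (fun σ => (σ : F → F)) DFunLike.coe_injective
  obtain ⟨r, x, hx⟩ := exists_primitive_elem (X := X) hp2 hV
    (by omega) (fun h => absurd (h ▸ hk) (by decide)) htr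
  -- the primitive element centralises the Fitting subgroup
  have hσx : S.sigma x = 1 := by
    have h1 : orderOf (S.sigma x) ∣ r := hx.ord ▸ orderOf_map_dvd S.sigma x
    rcases (Nat.dvd_prime hx.prime).1 h1 with h | h
    · exact orderOf_eq_one_iff.1 h
    · exfalso
      have h2 := Nat.le_of_dvd Nat.card_pos (orderOf_dvd_natCard (S.sigma x))
      rw [h, haut] at h2
      have := hx.big
      omega
  have hcent : ∀ g : X, S.sigma g = 1 → ∀ c ∈ fitIn D, g * c = c * g := by
    intro g hg c hc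
    obtain ⟨f, -, hf'⟩ := S.scal c hc
    refine (inv_mul_eq_one.1 (hf ((c * g)⁻¹ * (g * c)) fun v => ?_)).symm
    rw [mul_smul, inv_smul_eq_iff, mul_smul, mul_smul, hf', hf', S.twist, hg]
    rfl
  -- it centralises `D`
  have hxD : ∀ d ∈ D, x * d = d * x := by
    intro d hd
    set c := x * d * x⁻¹ * d⁻¹ with hc
    have hcD : c ∈ fitIn D := by
      refine centralizes_fitIn (D.mul_mem (‹D.Normal›.conj_mem d hd x) (D.inv_mem hd)) ?_
      refine hcent _ ?_
      rw [hc, map_mul, map_mul, map_mul, map_inv, map_inv, hσx]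
      group
    have hxc : x * c = c * x := hcent x hσx c hcD
    have hi : ∀ i : ℕ, x ^ i * d * (x ^ i)⁻¹ = c ^ i * d := by
      intro i
      induction i with
      | zero => simp
      | succ i ih =>
        calc x ^ (i + 1) * d * (x ^ (i + 1))⁻¹ = x * (x ^ i * d * (x ^ i)⁻¹) * x⁻¹ := by
              rw [pow_succ', mul_inv_rev]; simp only [mul_assoc]
          _ = x * c ^ i * (d * x⁻¹) := by rw [ih]; simp only [mul_assoc]
          _ = c ^ i * x * (d * x⁻¹) := by rw [((show Commute x c from hxc).pow_right i).eq]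
          _ = c ^ i * (x * d * x⁻¹ * d⁻¹) * d := by group
          _ = c ^ (i + 1) * d := by rw [← hc, pow_succ]
    have hcr : c ^ r = 1 := by
      have := hi r
      rw [show x ^ r = 1 by rw [← hx.ord, pow_orderOf_eq_one], one_mul, inv_one, mul_one] at this
      simpa using this
    have hc1 : c = 1 := by
      obtain ⟨f, hf0, hfc⟩ := S.scal c hcD
      have hpow : ∀ n : ℕ, ∀ v : V, (c ^ n) • v = S.ι (f ^ n) v := by
        intro n
        induction n with
        | zero => intro v; rw [pow_zero, pow_zero, one_smul, map_one]; rfl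
        | succ n ih => intro v; rw [pow_succ', mul_smul, ih, hfc, pow_succ' f, map_mul]; rfl
      obtain ⟨v, hv⟩ := exists_ne (0 : V)
      have hfr : f ^ r = 1 := by
        refine sub_eq_zero.1 (S.inj _ v hv ?_)
        rw [map_sub, map_one]
        show S.ι (f ^ r) v - v = 0
        rw [← hpow, hcr, one_smul, sub_self]
      by_contra hne
      have hf1 : f ≠ 1 := fun h => hne (hf c fun w => by rw [hfc, h, map_one]; rfl)
      have h1 : orderOf (Units.mk0 f hf0) = r := by
        haveI := Fact.mk hx.prime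
        exact orderOf_eq_prime (Units.ext hfr) fun h => hf1 (congrArg Units.val h)
      have h2 := orderOf_dvd_natCard (Units.mk0 f hf0)
      rw [h1, Nat.card_units, hFq] at h2
      exact hx.min b hb0 hbk h2
    exact mul_inv_eq_iff_eq_mul.1 (mul_inv_eq_one.1 (hc.symm.trans hc1))
  refine ⟨fun g hg v hv hgv => hx.fixed_eq_one hV hf (hxD g hg) hv hgv, ?_⟩
  -- the order of `D`
  let φ : D →* (F ≃+* F) := S.sigma.comp D.subtype
  obtain ⟨v, hv⟩ := exists_ne (0 : V)
  let ψ : φ.ker → Fˣ := fun g => Units.mk0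
    (S.scal _ (centralizes_fitIn g.1.2 (hcent _ g.2))).choose
    (S.scal _ (centralizes_fitIn g.1.2 (hcent _ g.2))).choose_spec.1
  have hψ : Function.Injective ψ := by
    intro g g' h
    have hh : (S.scal _ (centralizes_fitIn g.1.2 (hcent _ g.2))).choose =
        (S.scal _ (centralizes_fitIn g'.1.2 (hcent _ g'.2))).choose := congrArg Units.val h
    refine Subtype.ext (Subtype.ext ?_)
    refine (inv_mul_eq_one.1 (hf (((g'.1 : D) : X)⁻¹ * (g.1 : D)) fun w => ?_)).symm
    rw [mul_smul, inv_smul_eq_iff,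
      (S.scal _ (centralizes_fitIn g.1.2 (hcent _ g.2))).choose_spec.2,
      (S.scal _ (centralizes_fitIn g'.1.2 (hcent _ g'.2))).choose_spec.2, hh]
  have hker : Nat.card φ.ker ≤ p ^ b - 1 := by
    have := Nat.card_le_card_of_injective ψ hψ
    rwa [Nat.card_units, hFq] at this
  have hrange : Nat.card φ.range ≤ b := haut ▸ Subgroup.card_le_card_group _
  have hcard : Nat.card D ≤ b * (p ^ b - 1) := by
    rw [← φ.ker.index_mul_card, Subgroup.index_ker]
    exact Nat.mul_le_mul hrange hker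
  have hlt : b < p ^ b := Nat.lt_pow_self hp.one_lt
  rw [hV, hkab, pow_mul]
  have h3 : (p ^ b) ^ 3 ≤ (p ^ b) ^ a := Nat.pow_le_pow_right (by omega) ha3
  obtain ⟨t, ht⟩ : ∃ t, p ^ b = t + 1 := ⟨p ^ b - 1, by omega⟩
  rw [ht] at hcard hlt h3 ⊢
  rw [Nat.add_sub_cancel] at hcard
  have : 2 * (b * t) + 1 < (t + 1) ^ 3 := by
    have : b * t ≤ t * t := Nat.mul_le_mul_right t (by omega)
    nlinarith
  omega

end CfsgLib.TripleOrbits
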