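import Mathlib
import Cfsg.Agent.TripleOrbits15.Basic
import Cfsg.Agent.TripleOrbits15.SolvableCase
import Cfsg.Agent.TripleOrbits15.PSL
import Cfsg.Agent.ZassAbelian.Main
import Cfsg.Agent.PermGroups.RegularNormal
import Cfsg.Agent.TripleOrbits15.Nonsolvable

/-!
The affine case.
-/

set_option autoImplicit false
set_option linter.unusedSectionVars false
set_option linter.style.haveILetI false

open MulAction

namespace CfsgLib.TripleOrbits

universe u

/-- A point stabiliser with a regular normal elementary abelian subgroup inside `H`. -/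
structure AffineStab {G Ω : Type*} [Group G] [MulAction G Ω] (H : Subgroup G) (a : Ω)
    (V : Subgroup G) : Prop where
  le : V ≤ H
  fix : ∀ v ∈ V, v • a = a
  comm : IsMulCommutative V
  normalised : ∀ g : G, g • a = a → ∀ v ∈ V, g * v * g⁻¹ ∈ V
  reg : ∀ y z : Ω, y ≠ a → z ≠ a → ∃ v ∈ V, v • y = z
  free : ∀ v ∈ V, ∀ y : Ω, y ≠ a → v • y = y → v = 1

theorem orderOf_odd_of_card_mod_three {F : Type} [Field F] [Fintype F]
    (h : Nat.card F % 3 = 2) (σ : F ≃+* F) : Odd (orderOf σ) := by
  classical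
  haveI : Finite (F ≃+* F) := Finite.of_injective (fun σ => (σ : F → F)) DFunLike.coe_injective
  by_contra hev
  rw [Nat.not_odd_iff_even] at hev
  have hτ : orderOf (σ ^ (orderOf σ / 2)) = 2 :=
    orderOf_pow_orderOf_div (orderOf_pos σ).ne' hev.two_dvd
  set τ := σ ^ (orderOf σ / 2)
  let P : Subgroup (F ≃+* F) := Subgroup.zpowers τ
  have hP : Nat.card P = 2 := by rw [Nat.card_zpowers, hτ]
  haveI : Fintype P := Fintype.ofFinite P
  haveI : FaithfulSMul P F := ⟨fun {g g'} hgg => Subtype.ext (RingEquiv.ext hgg)⟩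
  have h1 := FixedPoints.finrank_eq_card P F
  haveI : Fintype (FixedPoints.subfield P F) := Fintype.ofFinite _
  have h2 := Module.card_eq_pow_finrank (K := FixedPoints.subfield P F) (V := F)
  rw [h1, ← Nat.card_eq_fintype_card (α := P), hP, pow_two, ← Nat.card_eq_fintype_card] at h2
  rw [h2, Nat.mul_mod] at h
  have := Nat.mod_lt (Fintype.card (FixedPoints.subfield P F)) (show 0 < 3 by norm_num)
  interval_cases hm : Fintype.card (FixedPoints.subfield P F) % 3 <;> simp at h

variable {G : Type u} {Ω : Type*} [Group G] [Finite G] [MulAction G Ω] [Finite Ω] {H : Subgroup G}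

/-- The automorphism of `pairIn` given by an element preserving the pair. -/
def pairConj (hH : H.Normal) {a b : Ω} (h : G)
    (hh : (h • a = a ∧ h • b = b) ∨ (h • a = b ∧ h • b = a)) :
    ↥(pairIn H a b) ≃* ↥(pairIn H a b) :=
  let hmem : ∀ g : G, ((g • a = a ∧ g • b = b) ∨ (g • a = b ∧ g • b = a)) →
      ∀ e ∈ pairIn H a b, g * e * g⁻¹ ∈ pairIn H a b := by
    rintro g hg e ⟨heH, hea, heb⟩
    refine ⟨hH.conj_mem e heH g, ?_, ?_⟩
    · show (g * e * g⁻¹) • a = a
      rcases hg with ⟨h1, h2⟩ | ⟨h1, h2⟩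
      · rw [mul_smul, mul_smul, inv_smul_eq_iff.2 h1.symm, mem_stabilizer_iff.1 hea, h1]
      · rw [mul_smul, mul_smul, inv_smul_eq_iff.2 h2.symm, mem_stabilizer_iff.1 heb, h2]
    · show (g * e * g⁻¹) • b = b
      rcases hg with ⟨h1, h2⟩ | ⟨h1, h2⟩
      · rw [mul_smul, mul_smul, inv_smul_eq_iff.2 h2.symm, mem_stabilizer_iff.1 heb, h2]
      · rw [mul_smul, mul_smul, inv_smul_eq_iff.2 h1.symm, mem_stabilizer_iff.1 hea, h1]
  let hinv : (h⁻¹ • a = a ∧ h⁻¹ • b = b) ∨ (h⁻¹ • a = b ∧ h⁻¹ • b = a) := by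
    rcases hh with ⟨h1, h2⟩ | ⟨h1, h2⟩
    · exact Or.inl ⟨inv_smul_eq_iff.2 h1.symm, inv_smul_eq_iff.2 h2.symm⟩
    · exact Or.inr ⟨inv_smul_eq_iff.2 h2.symm, inv_smul_eq_iff.2 h1.symm⟩
  { toFun := fun e => ⟨h * e * h⁻¹, hmem h hh e e.2⟩
    invFun := fun e => ⟨h⁻¹ * e * h⁻¹⁻¹, hmem h⁻¹ hinv e e.2⟩
    left_inv := fun e => Subtype.ext (by simp [mul_assoc])
    right_inv := fun e => Subtype.ext (by simp [mul_assoc])
    map_mul' := fun e e' => Subtype.ext (by simp [mul_assoc]) }

theorem regular_normal_degree (T : Triple G Ω H) (h3 : 3 ∣ Nat.card Ω)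
    (heven : Even (Nat.card Ω)) (h4 : 3 < Nat.card Ω) :
    ¬ CfsgLib.ZassAbelian.HasRegularNormal H Ω := by
  rintro ⟨M, hM, htr, hfree⟩
  haveI := hM
  have hf : FaithfulSMul H Ω := ⟨fun {g g'} h => by
    refine Subtype.ext (inv_mul_eq_one.1 (T.faithful ((g' : G)⁻¹ * g) fun y => ?_)).symm
    rw [mul_smul, inv_smul_eq_iff]
    exact h y⟩
  haveI := hf
  have h2 : IsMultiplyPretransitive H Ω 2 := is_two_pretransitive_iff.2 fun hab hcd => by
    obtain ⟨h, hh, h0, h1⟩ := T.two _ _ _ _ hab hcd
    exact ⟨⟨h, hh⟩, h0, h1⟩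
  haveI : IsPretransitive M Ω := ⟨fun x y => by
    obtain ⟨m, hm, h⟩ := htr x y
    exact ⟨⟨m, hm⟩, h⟩⟩
  obtain ⟨-, q, j, hq, hj, hcard, -⟩ :=
    CfsgLib.PermGroups.regular_normal_elementary_of_two_transitive h2 (by omega) M fun x =>
      (Subgroup.eq_bot_iff_forall _).2 fun m hm => Subtype.ext (hfree m m.2 x hm)
  rw [hcard] at h3 heven
  have e3 := (Nat.prime_dvd_prime_iff_eq Nat.prime_three hq).1 (Nat.prime_three.dvd_of_dvd_pow h3)
  have e2 := (Nat.prime_dvd_prime_iff_eq Nat.prime_two hq).1
    (Nat.prime_two.dvd_of_dvd_pow (even_iff_two_dvd.1 heven))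
  omega

/-- The affine case: coordinates, with translations inside `H`. -/
theorem exists_coords (T : Triple G Ω H) (h3 : 3 ∣ Nat.card Ω) (heven : Even (Nat.card Ω))
    (h4 : 3 < Nat.card Ω) {a b : Ω} (hab : a ≠ b) {V : Subgroup G} (hV : AffineStab H a V)
    {p k : ℕ} (hp : p.Prime) (hcard : Nat.card V = p ^ k)
    (hE : Group.IsSolvable ↥(pairIn H a b) ∨
      (ThreePrimeSimple.{u} ∧ ¬ 3 ∣ Nat.card ↥(pairIn H a b))) :
    (∃ (F : Type) (_ : Field F) (_ : Fintype F) (D : Coords G Ω F) (τ : F → G),
      D.i = a ∧ D.pt 0 = b ∧ Fintype.card F + 1 = Nat.card Ω ∧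
      (∀ f, τ f • D.i = D.i) ∧ (∀ f x, τ f • D.pt x = D.pt (x + f)) ∧ ∀ f, τ f ∈ H) := by
  classical
  haveI := Fact.mk hp
  haveI := hV.comm
  letI : CommGroup V := { (inferInstance : Group V) with mul_comm := mul_comm' }
  -- the degree
  let ev : V → {y : Ω // y ≠ a} := fun v => ⟨(v : G) • b, fun e =>
    hab.symm (smul_left_cancel (v : G) (e.trans (hV.fix v v.2).symm))⟩
  have hev : Function.Bijective ev := by
    refine ⟨fun v w h => ?_, fun y => ?_⟩
    · have h' : (v : G) • b = (w : G) • b := congrArg Subtype.val h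
      refine (inv_mul_eq_one.1 ?_).symm
      exact Subtype.ext (hV.free _ (V.mul_mem (V.inv_mem w.2) v.2) b hab.symm
        (by show ((w : G)⁻¹ * (v : G)) • b = b; rw [mul_smul, h', inv_smul_smul]))
    · obtain ⟨v, hv, e⟩ := hV.reg b y hab.symm y.2
      exact ⟨⟨v, hv⟩, Subtype.ext e⟩
  have hn : Nat.card V + 1 = Nat.card Ω := by
    haveI := Fintype.ofFinite Ω
    have h1 : Nat.card V = Nat.card Ω - 1 := by
      rw [Nat.card_eq_of_bijective ev hev, Nat.card_eq_fintype_card,
        Nat.card_eq_fintype_card, Fintype.card_subtype_compl, Fintype.card_subtype_eq]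
    omega
  have hp2 : p ≠ 2 := by
    rintro rfl
    rw [hcard] at hn
    rcases k with _ | k
    · omega
    · rw [← hn, Nat.even_add_one] at heven
      exact heven (by simp [parity_simps])
  have hmod : Nat.card V % 3 = 2 := by omega
  have hk : Odd k := by
    rcases Nat.even_or_odd k with ⟨m, rfl⟩ | h
    · exfalso
      rw [hcard, pow_add, Nat.mul_mod] at hmod
      have := Nat.mod_lt (p ^ m) (show 0 < 3 by norm_num)
      interval_cases hm : p ^ m % 3 <;> simp at hmod
    · exact h
  -- the linear action of the two-point stabiliser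
  set X : Subgroup G := stabilizer G a ⊓ stabilizer G b with hX
  have hXn : ∀ g ∈ X, ∀ v ∈ V, g * v * g⁻¹ ∈ V := fun g hg => hV.normalised g hg.1
  letI iMDA : MulDistribMulAction X V :=
    { smul := fun g v => ⟨(g : G) * v * (g : G)⁻¹, hXn g g.2 v v.2⟩
      one_smul := fun v => Subtype.ext (show (1 : G) * v * (1 : G)⁻¹ = v by simp)
      mul_smul := fun g g' v => Subtype.ext (show ((g : G) * g') * v * ((g : G) * g')⁻¹ =
        (g : G) * ((g' : G) * v * (g' : G)⁻¹) * (g : G)⁻¹ by group)
      smul_one := fun g => Subtype.ext (show (g : G) * 1 * (g : G)⁻¹ = 1 by simp)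
      smul_mul := fun g v w => Subtype.ext (show (g : G) * (v * w) * (g : G)⁻¹ =
        (g : G) * v * (g : G)⁻¹ * ((g : G) * w * (g : G)⁻¹) by group) }
  letI : DistribMulAction X (Additive V) :=
    { smul := fun g v => Additive.ofMul (g • Additive.toMul v)
      one_smul := fun v => congrArg Additive.ofMul (one_smul X (Additive.toMul v))
      mul_smul := fun g g' v => congrArg Additive.ofMul (mul_smul g g' (Additive.toMul v))
      smul_zero := fun g => congrArg Additive.ofMul (smul_one g)
      smul_add := fun g v w => congrArg Additive.ofMul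
        (MulDistribMulAction.smul_mul g (Additive.toMul v) (Additive.toMul w)) }
  let val : Additive V → G := fun v => ((Additive.toMul v : V) : G)
  have hval : ∀ (g : X) (v : Additive V), val (g • v) = (g : G) * val v * (g : G)⁻¹ :=
    fun g v => rfl
  have hsmul : ∀ (g : X) (v : Additive V), val (g • v) • b = (g : G) • val v • b := by
    intro g v
    rw [hval, mul_smul, mul_smul, inv_smul_eq_iff.2 g.2.2.symm]
  have hinjb : ∀ v w : Additive V, val v • b = val w • b → v = w := fun v w h =>
    Additive.toMul.injective (hev.1 (Subtype.ext h))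
  have hf : ∀ g : X, (∀ v : Additive V, g • v = v) → g = 1 := by
    refine fun g h => Subtype.ext (T.faithful g fun y => ?_)
    by_cases hy : y = a
    · subst hy; exact g.2.1
    · obtain ⟨v, hv, rfl⟩ := hV.reg b y hab.symm hy
      have := hsmul g (Additive.ofMul ⟨v, hv⟩)
      rw [h] at this
      exact this.symm
  have hne : ∀ v : Additive V, v ≠ 0 → val v • b ≠ b := fun v hv h =>
    hv (hinjb v 0 (h.trans (one_smul G b).symm))
  have htr : ∀ u v : Additive V, u ≠ 0 → v ≠ 0 → ∃ g : X, g • u = v := by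
    intro u v hu hv
    have hua : ∀ w : Additive V, val w • b ≠ a := fun w => (ev (Additive.toMul w)).2
    obtain ⟨g, g1, g2, g3⟩ := T.three a b (val u • b) a b (val v • b) hab
      (hua u).symm (hne u hu).symm hab (hua v).symm (hne v hv).symm
    exact ⟨⟨g, g1, g2⟩, hinjb _ _ (by rw [hsmul]; exact g3)⟩
  haveI := T.normal
  let D : Subgroup X := H.subgroupOf X
  have hDeq : (pairIn H a b).subgroupOf X = D := by
    ext g
    exact ⟨fun h => h.1, fun h => ⟨h, g.2⟩⟩
  let eD : D ≃* ↥(pairIn H a b) := (MulEquiv.subgroupCongr hDeq.symm).trans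
    (Subgroup.subgroupOfEquivOfLe inf_le_right)
  haveI : Group.IsSolvable ↥D := by
    rcases hE with hE | ⟨hSz, h3E⟩
    · haveI := hE
      exact Group.isSolvable_of_isSolvable_injective (f := eD.toMonoidHom) eD.injective
    have hexp : ∀ v : Additive V, p • v = 0 :=
      elem_of_card (X := X) ((Nat.card_congr Additive.toMul).trans hcard)
        (fun h => by simp [h] at hk) htr
    letI : Module (ZMod p) (Additive V) := AddCommGroup.zmodModule hexp
    have hcard' : Nat.card (Additive V) = p ^ k := (Nat.card_congr Additive.toMul).trans hcard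
    by_cases hk1 : k = 1
    · -- dimension one
      have hXc : ∀ g g' : X, g * g' = g' * g := by
        intro g g'
        haveI : Nontrivial (Additive V) := Finite.one_lt_card_iff_nontrivial.1 (by
          rw [hcard', hk1, pow_one]; exact hp.one_lt)
        obtain ⟨v₀, hv₀⟩ := exists_ne (0 : Additive V)
        haveI := Fintype.ofFinite (Additive V)
        have hdim : Module.finrank (ZMod p) (Additive V) = 1 := by
          have h := Module.card_eq_pow_finrank (K := ZMod p) (V := Additive V)
          rw [ZMod.card, ← Nat.card_eq_fintype_card, hcard', hk1] at h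
          exact (Nat.pow_right_injective hp.two_le h).symm
        refine (inv_mul_eq_one.1 (hf ((g' * g)⁻¹ * (g * g')) fun v => ?_)).symm
        obtain ⟨a₁, ha₁⟩ := exists_smul_eq_of_finrank_eq_one hdim hv₀ (g • v₀)
        obtain ⟨a₂, ha₂⟩ := exists_smul_eq_of_finrank_eq_one hdim hv₀ (g' • v₀)
        obtain ⟨c, rfl⟩ := exists_smul_eq_of_finrank_eq_one hdim hv₀ v
        rw [mul_smul, inv_smul_eq_iff, mul_smul, mul_smul]
        simp only [Linear.smul_zmod, ← ha₁, ← ha₂, smul_smul]
        congr 1
        ring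
      letI : CommGroup X := { (inferInstance : Group X) with mul_comm := hXc }
      exact inferInstance
    obtain ⟨r, x, hx⟩ := exists_primitive_elem (X := X) hp2 hcard'
      (by obtain ⟨m, hm⟩ := hk; omega) (fun h => absurd (h ▸ hk) (by decide)) htr
    exact Linear.solvable_of_three (V := Additive V) (p := p)
      ⟨hp2, hcard', hk, hf, hx⟩ hSz D (by rwa [Nat.card_congr eD.toEquiv])
  have hcV : Nat.card (Additive V) = p ^ k := (Nat.card_congr Additive.toMul).trans hcard
  rcases solvable_case (p := p) (k := k) hp2 hcV hk hf htr D with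
    ⟨F, iF, iT, S, hFcard⟩ | ⟨hsr, hsmall⟩
  swap
  · -- a Zassenhaus group with a small two-point stabiliser
    exfalso
    obtain ⟨c, hca, hcb⟩ : ∃ c, c ≠ a ∧ c ≠ b := by
      by_contra h
      push Not at h
      have hle : Nat.card Ω ≤ 2 := by
        rw [← Set.ncard_univ]
        refine (Set.ncard_le_ncard (t := {a, b}) (fun x _ => ?_) (Set.toFinite _)).trans
          (Set.ncard_pair hab).le
        by_cases hx : x = a
        · exact Or.inl hx
        · exact Or.inr (h x hx)
      omega
    have hthree : ∀ g : H, ∀ u v w : Ω, u ≠ v → v ≠ w → u ≠ w →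
        g • u = u → g • v = v → g • w = w → g = 1 := by
      intro g u v w huv hvw huw hu hv hw
      obtain ⟨h, hh, h0, h1⟩ := T.two u v a b huv hab
      have hgu : (g : G) • u = u := hu
      have hgv : (g : G) • v = v := hv
      have hgw : (g : G) • w = w := hw
      have m1 : (h * g * h⁻¹) • a = a := by
        rw [← h0, mul_smul, inv_smul_smul, mul_smul, hgu]
      have m2 : (h * g * h⁻¹) • b = b := by
        rw [← h1, mul_smul, inv_smul_smul, mul_smul, hgv]
      have hwa : h • w ≠ a := fun e => huw (smul_left_cancel h (h0.trans e.symm))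
      have hwb : h • w ≠ b := fun e => hvw (smul_left_cancel h (h1.trans e.symm))
      obtain ⟨x, hx, hxb⟩ := hV.reg b (h • w) hab.symm hwa
      have := hsr ⟨h * g * h⁻¹, m1, m2⟩ (T.normal.conj_mem g g.2 h)
        (Additive.ofMul ⟨x, hx⟩) (fun e => hwb (by
          have e' : x = 1 := congrArg Subtype.val (congrArg Additive.toMul e)
          rw [← hxb, e', one_smul]))
        (hinjb _ _ (by
          rw [hsmul]
          show (h * g * h⁻¹) • x • b = x • b
          rw [hxb, mul_smul, inv_smul_smul, mul_smul, hgw]))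
      exact Subtype.ext (conj_eq_one_iff.1 (congrArg Subtype.val this))
    let Z : CfsgLib.ZassAbelian.Setting H Ω :=
      { i := a, o := b, io := hab
        pair := fun u v w z huv hwz => by
          obtain ⟨h, hh, h0, h1⟩ := T.two u v w z huv hwz
          exact ⟨⟨h, hh⟩, h0, h1⟩
        three := hthree
        third := ⟨c, hca, hcb⟩
        F := V.subgroupOf H
        Fle := fun u hu => hV.fix u hu
        Fnorm := fun g hg u hu => hV.normalised g hg u hu
        Fcomm := fun u hu v hv => Subtype.ext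
          (show (u : G) * (v : G) = (v : G) * (u : G) from congrArg Subtype.val
            (mul_comm' (⟨(u : G), hu⟩ : V) ⟨(v : G), hv⟩))
        reg := fun y z hy hz => by
          obtain ⟨v, hv, e⟩ := hV.reg y z hy hz
          exact ⟨⟨v, hV.le hv⟩, hv, e⟩
        free := fun u hu y hy h => Subtype.ext (hV.free u hu y hy h) }
    have hZF : Nat.card Z.F = Nat.card V :=
      Nat.card_congr (Subgroup.subgroupOfEquivOfLe hV.le).toEquiv
    have hZH : Nat.card Z.H = Nat.card D := by
      refine (Nat.card_congr ((Equiv.refl _).trans ?_)).trans (Nat.card_congr eD.toEquiv).symm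
      exact
        { toFun := fun h => ⟨((h : H) : G), (h : H).2, (Z.mem_H.1 h.2).1, (Z.mem_H.1 h.2).2⟩
          invFun := fun g => ⟨⟨(g : G), g.2.1⟩, Z.mem_H.2 ⟨g.2.2.1, g.2.2.2⟩⟩
          left_inv := fun h => rfl
          right_inv := fun g => rfl }
    rw [hcV, ← hcard] at hsmall
    rcases CfsgLib.ZassAbelian.classify Z with e | ⟨e, -⟩ | e
    · rw [hZF, hZH] at e; omega
    · rw [hZF, hZH] at e; omega
    · exact regular_normal_degree T h3 heven h4 e
  -- the coordinates
  haveI : Nontrivial (Additive V) := Finite.one_lt_card_iff_nontrivial.1 (by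
    rw [hcV]; exact Nat.one_lt_pow (fun h => by simp [h] at hk) hp.one_lt)
  obtain ⟨v₀, hv₀⟩ := exists_ne (0 : Additive V)
  let θ : F → Additive V := fun f => S.ι f v₀
  have hθ : Function.Bijective θ := (Nat.bijective_iff_injective_and_card θ).2 ⟨fun f f' h =>
    sub_eq_zero.1 (S.inj _ v₀ hv₀ (by
      rw [map_sub]
      show S.ι f v₀ - S.ι f' v₀ = 0
      exact sub_eq_zero.2 h)), hFcard⟩
  let pt : F → Ω := fun f => val (θ f) • b
  have hpt0 : pt 0 = b := by
    show val (S.ι 0 v₀) • b = b
    rw [map_zero]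
    exact one_smul G b
  have hpa : ∀ f, pt f ≠ a := fun f => (ev (Additive.toMul (θ f))).2
  have hFX : ∀ g : G, g ∈ (CfsgLib.TripleOrbits.fitIn D).map X.subtype ↔
      g ∈ (Cfsg.fittingSubgroup ↥(pairIn H a b)).map (pairIn H a b).subtype := by
    intro g
    rw [← CfsgLib.Constrained.fitting_map eD]
    constructor
    · rintro ⟨x, ⟨d, hd, rfl⟩, rfl⟩
      exact ⟨eD d, ⟨d, hd, rfl⟩, rfl⟩
    · rintro ⟨_, ⟨d, hd, rfl⟩, rfl⟩
      exact ⟨d, ⟨d, hd, rfl⟩, rfl⟩
  let C : Coords G Ω F :=
    { i := a
      pt := pt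
      inj := fun f f' h => hθ.1 (hinjb _ _ h)
      ne := hpa
      surj := fun y hy => by
        obtain ⟨v, hv, e⟩ := hV.reg b y hab.symm hy
        obtain ⟨f, hf'⟩ := hθ.2 (Additive.ofMul ⟨v, hv⟩)
        exact ⟨f, by show val (θ f) • b = y; rw [hf']; exact e⟩
      faithful := T.faithful
      three := T.three
      semi := fun g hga hgb => by
        rw [hpt0] at hgb
        set x : X := ⟨g, hga, hgb⟩
        obtain ⟨c, hc⟩ := hθ.2 (x • v₀)
        have hc0 : c ≠ 0 := by
          rintro rfl
          refine hv₀ ((smul_eq_zero_iff_eq x).1 (hc.symm.trans ?_))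
          show S.ι 0 v₀ = 0
          rw [map_zero]; rfl
        refine ⟨Units.mk0 c hc0, S.sigma x, fun f => ?_⟩
        show g • val (θ f) • b = val (θ (c * S.sigma x f)) • b
        rw [← hsmul x (θ f)]
        refine congrArg (fun w => val w • b) ?_
        show x • S.ι f v₀ = S.ι (c * S.sigma x f) v₀
        rw [S.twist, ← hc, mul_comm, map_mul]
        rfl
      autOdd := fun σ => orderOf_odd_of_card_mod_three (by rw [hFcard, hcV, ← hcard]; exact hmod) σ
      two := fun h2 => by
        obtain ⟨q, hq⟩ := CharP.exists F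
        obtain ⟨⟨j, hj⟩, hqp, hFq⟩ := FiniteField.card F q
        have e : q = p := by
          have h1 : Nat.card F = p ^ k := hFcard.trans hcV
          rw [Nat.card_eq_fintype_card, hFq] at h1
          exact (Nat.prime_dvd_prime_iff_eq hqp hp).1 (hqp.dvd_of_dvd_pow
            (h1 ▸ dvd_pow_self q hj.ne'))
        subst e
        haveI := hq
        have : ((2 : ℕ) : F) = 0 := by exact_mod_cast h2
        rw [CharP.cast_eq_zero_iff F q] at this
        exact hp2 ((Nat.prime_dvd_prime_iff_eq hqp Nat.prime_two).1 this)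
      gen := ((CfsgLib.TripleOrbits.fitIn D).map X.subtype : Subgroup G)
      gen_scalar := by
        rintro _ ⟨x, hx, rfl⟩
        obtain ⟨c, -, hc⟩ := S.scal x hx
        refine ⟨x.2.1, c, fun f => ?_⟩
        show (x : G) • val (θ f) • b = val (θ (c * f)) • b
        rw [← hsmul x (θ f)]
        refine congrArg (fun w => val w • b) ?_
        show x • S.ι f v₀ = S.ι (c * f) v₀
        rw [hc, map_mul]; rfl
      gen_conj := fun h hh g hg => by
        rw [hpt0] at hh
        rw [SetLike.mem_coe, hFX] at hg ⊢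
        obtain ⟨e, he, rfl⟩ := hg
        rw [← CfsgLib.Constrained.fitting_map (pairConj T.normal h hh)]
        exact ⟨pairConj T.normal h hh e, ⟨e, he, rfl⟩, rfl⟩
      gen_span := fun σ hσ => S.span σ fun x hx f hfv =>
        hσ (x : G) ⟨x, hx, rfl⟩ f fun z => by
          show (x : G) • val (θ z) • b = val (θ (f * z)) • b
          rw [← hsmul x (θ z)]
          refine congrArg (fun w => val w • b) ?_
          show x • S.ι z v₀ = S.ι (f * z) v₀
          rw [hfv, map_mul]; rfl }
  refine ⟨F, iF, iT, C, fun f => val (θ f), rfl, hpt0, ?_, fun f => hV.fix _ (Additive.toMul (θ f)).2,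
    fun f x => ?_, fun f => hV.le (Additive.toMul (θ f)).2⟩
  · rw [← Nat.card_eq_fintype_card, hFcard, hcV, ← hcard, hn]
  · show val (θ f) • val (θ x) • b = val (θ (x + f)) • b
    rw [← mul_smul]
    refine congrArg (· • b) ?_
    show val (S.ι f v₀) * val (S.ι x v₀) = val (S.ι (x + f) v₀)
    rw [add_comm x f, map_add]
    rfl

end CfsgLib.TripleOrbits
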