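import Mathlib
import Cfsg.Agent.TripleOrbits15.Affine
import Cfsg.Agent.PermGroups.MinimalNormal
import Cfsg.Agent.PermGroups.NormalSubgroup

/-!
The socle of a point stabiliser.
-/

set_option autoImplicit false
set_option linter.unusedSectionVars false
set_option linter.style.haveILetI false

open MulAction

namespace CfsgLib.TripleOrbits

/-- A point stabiliser with a simple primitive normal subgroup inside `H`. -/
structure SimpleStab {G Ω : Type*} [Group G] [MulAction G Ω] (H : Subgroup G) (a : Ω)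
    (N : Subgroup G) : Prop where
  le : N ≤ H
  fix : ∀ v ∈ N, v • a = a
  simple : IsSimpleGroup N
  normalised : ∀ g : G, g • a = a → ∀ v ∈ N, g * v * g⁻¹ ∈ N
  reg : ∀ y z : Ω, y ≠ a → z ≠ a → ∃ v ∈ N, v • y = z
  maximal : ∀ c : Ω, c ≠ a → ∀ K : Subgroup G, K ≤ N → N ⊓ stabilizer G c ≤ K →
    K = N ⊓ stabilizer G c ∨ K = N
  point_ne_bot : ∀ c : Ω, c ≠ a → N ⊓ stabilizer G c ≠ ⊥

variable {G Ω : Type*} [Group G] [Finite G] [MulAction G Ω] [Finite Ω] {H : Subgroup G}

theorem exists_socle (T : Triple G Ω H) (h4 : 3 < Nat.card Ω) (a : Ω) :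
    (∃ V p k, AffineStab H a V ∧ Nat.Prime p ∧ Nat.card V = p ^ k) ∨
      ∃ N, SimpleStab H a N := by
  classical
  haveI : FaithfulSMul G Ω := ⟨fun {g g'} h => by
    refine (inv_mul_eq_one.1 (T.faithful (g'⁻¹ * g) fun y => ?_)).symm
    rw [mul_smul, h, inv_smul_smul]⟩
  set X := SubMulAction.ofStabilizer G a with hX
  haveI : FaithfulSMul (stabilizer G a) X := CfsgLib.PermGroups.faithfulSMul_ofStabilizer a
  have hXne : ∀ y : X, (y : Ω) ≠ a := fun y => (SubMulAction.mem_ofStabilizer_iff (G := G) a).1 y.2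
  let toX : ∀ y : Ω, y ≠ a → X := fun y hy => ⟨y, (SubMulAction.mem_ofStabilizer_iff (G := G) a).2 hy⟩
  have hcardX : Nat.card X = Nat.card Ω - 1 := CfsgLib.PermGroups.card_ofStabilizer a
  have h2 : IsMultiplyPretransitive (stabilizer G a) X 2 := is_two_pretransitive_iff.2
    fun {x y z w} hxy hzw => by
      obtain ⟨g, g1, g2, g3⟩ := T.three a x y a z w (hXne x).symm (hXne y).symm
        (fun e => hxy (Subtype.ext e)) (hXne z).symm (hXne w).symm (fun e => hzw (Subtype.ext e))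
      exact ⟨⟨g, g1⟩, Subtype.ext g2, Subtype.ext g3⟩
  haveI : Nontrivial X := Finite.one_lt_card_iff_nontrivial.1 (by omega)
  haveI : IsPreprimitive (stabilizer G a) X := isPreprimitive_of_is_two_pretransitive h2
  -- a minimal normal subgroup inside `H`
  haveI := T.normal
  let Ha : Subgroup (stabilizer G a) := H.subgroupOf (stabilizer G a)
  have hHa : Ha ≠ ⊥ := by
    obtain ⟨b, hb, c, hc, hbc⟩ : ∃ b, b ≠ a ∧ ∃ c, c ≠ a ∧ b ≠ c := by
      obtain ⟨x, y, hxy⟩ := exists_pair_ne X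
      exact ⟨x, hXne x, y, hXne y, fun e => hxy (Subtype.ext e)⟩
    obtain ⟨h, hh, h0, h1⟩ := T.two a b a c hb.symm hc.symm
    intro e
    have : (⟨h, h0⟩ : stabilizer G a) ∈ Ha := hh
    rw [e, Subgroup.mem_bot, Subtype.ext_iff] at this
    change h = 1 at this
    rw [this, one_smul] at h1
    exact hbc h1
  have hex : ∃ n, ∃ M : Subgroup (stabilizer G a), M.Normal ∧ M ≤ Ha ∧ M ≠ ⊥ ∧ Nat.card M = n :=
    ⟨_, Ha, inferInstance, le_rfl, hHa, rfl⟩
  obtain ⟨N, hNn, hNle, hNne, hNc⟩ := Nat.find_spec hex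
  have hmin : ∀ M : Subgroup (stabilizer G a), M.Normal → M ≤ N → M = ⊥ ∨ M = N := by
    intro M hM hMle
    by_cases hb : M = ⊥
    · exact Or.inl hb
    · exact Or.inr (Subgroup.eq_of_le_of_card_ge hMle
        (hNc ▸ Nat.find_min' hex ⟨M, hM, hMle.trans hNle, hb, rfl⟩))
  haveI := hNn
  haveI : IsPretransitive N X := CfsgLib.PermGroups.isPretransitive_normal (X := X) hNne
  set V : Subgroup G := N.map (stabilizer G a).subtype with hV
  have hVle : V ≤ H := by
    rintro _ ⟨x, hx, rfl⟩; exact hNle hx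
  have hVfix : ∀ v ∈ V, v • a = a := by
    rintro _ ⟨x, -, rfl⟩; exact x.2
  have hVnorm : ∀ g : G, g • a = a → ∀ v ∈ V, g * v * g⁻¹ ∈ V := by
    rintro g hg _ ⟨x, hx, rfl⟩
    exact ⟨_, hNn.conj_mem x hx ⟨g, hg⟩, rfl⟩
  have hVreg : ∀ y z : Ω, y ≠ a → z ≠ a → ∃ v ∈ V, v • y = z := by
    intro y z hy hz
    obtain ⟨m, hm⟩ := exists_smul_eq N (toX y hy) (toX z hz)
    exact ⟨_, ⟨(m : stabilizer G a), m.2, rfl⟩, congrArg Subtype.val hm⟩
  by_cases hreg : ∃ c : X, stabilizer N c = ⊥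
  · obtain ⟨c, hc⟩ := hreg
    have hall := CfsgLib.PermGroups.stabilizer_eq_bot_of_normal hc
    obtain ⟨hcomm, p, j, hp, -, hcard, -⟩ :=
      CfsgLib.PermGroups.regular_normal_elementary_of_two_transitive h2 (by omega) N hall
    refine Or.inl ⟨V, p, j, ⟨hVle, hVfix, ⟨⟨?_⟩⟩, hVnorm, hVreg, ?_⟩, hp, ?_⟩
    · rintro ⟨_, x, hx, rfl⟩ ⟨_, y, hy, rfl⟩
      exact Subtype.ext (congrArg (fun z : N => ((z : stabilizer G a) : G))
        (hcomm.is_comm.comm ⟨x, hx⟩ ⟨y, hy⟩))
    · rintro _ ⟨x, hx, rfl⟩ y hy hfix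
      have : (⟨x, hx⟩ : N) ∈ stabilizer N (toX y hy) := mem_stabilizer_iff.2 (Subtype.ext hfix)
      rw [hall, Subgroup.mem_bot] at this
      exact congrArg (fun z : N => ((z : stabilizer G a) : G)) this
    · rw [hV, Subgroup.card_map_of_injective (stabilizer G a).subtype_injective,
        CfsgLib.PermGroups.card_eq_of_regular (X := X) hc, hcard]
  · push Not at hreg
    haveI := CfsgLib.PermGroups.isPreprimitive_of_minimal_normal h2 (by omega) N hmin hreg
    have hsimp := CfsgLib.PermGroups.isSimpleGroup_of_minimal_normal h2 (by omega) N hNne hmin hreg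
    let e : N ≃* V := N.equivMapOfInjective _ (stabilizer G a).subtype_injective
    refine Or.inr ⟨V, hVle, hVfix, ?_, hVnorm, hVreg, ?_, ?_⟩
    · haveI := hsimp
      haveI : Nontrivial V := e.symm.toEquiv.nontrivial
      exact IsSimpleGroup.isSimpleGroup_of_surjective e.toMonoidHom e.surjective
    · intro c hc K hKle hK
      have hmax : IsCoatom (stabilizer N (toX c hc)) :=
        (isCoatom_stabilizer_iff_preprimitive N (toX c hc)).2 inferInstance
      let K' : Subgroup N := (K.comap (stabilizer G a).subtype).subgroupOf N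
      have hle : stabilizer N (toX c hc) ≤ K' := fun m hm =>
        hK ⟨⟨(m : stabilizer G a), m.2, rfl⟩, congrArg Subtype.val (mem_stabilizer_iff.1 hm)⟩
      rcases eq_or_lt_of_le hle with h | h
      · refine Or.inl (le_antisymm (fun v hv => ⟨hKle hv, ?_⟩) hK)
        obtain ⟨x, hx, rfl⟩ := hKle hv
        have : (⟨x, hx⟩ : N) ∈ K' := hv
        rw [← h] at this
        exact congrArg Subtype.val (mem_stabilizer_iff.1 this)
      · refine Or.inr (le_antisymm hKle ?_)
        rintro _ ⟨x, hx, rfl⟩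
        have : (⟨x, hx⟩ : N) ∈ K' := by rw [hmax.2 _ h]; exact Subgroup.mem_top _
        exact this
    · intro c hc e'
      refine hreg (toX c hc) ((Subgroup.eq_bot_iff_forall _).2 fun m hm => ?_)
      have : ((m : stabilizer G a) : G) ∈ V ⊓ stabilizer G c :=
        ⟨⟨(m : stabilizer G a), m.2, rfl⟩, congrArg Subtype.val (mem_stabilizer_iff.1 hm)⟩
      rw [e', Subgroup.mem_bot] at this
      exact Subtype.ext (Subtype.ext this)

end CfsgLib.TripleOrbits
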