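import Mathlib
import Cfsg.Agent.TripleOrbits15.Socle
import Cfsg.Agent.TripleOrbits15.Defs
import Cfsg.Agent.TripleOrbits15.Reduction
import Cfsg.Agent.S1163

/-!
A point stabiliser of order prime to three with a simple socle: the Suzuki groups in their doubly
transitive action.
-/

set_option autoImplicit false
set_option linter.unusedSectionVars false
set_option linter.style.haveILetI false

open MulAction

namespace CfsgLib.TripleOrbits

universe u

/-- A primitive action of odd degree of a Suzuki group is the doubly transitive one. -/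
theorem two_transitive_of_suzuki {N : Type*} [Group N] [Finite N] [IsSimpleGroup N]
    (hSz : Cfsg.Lie.IsoSuzuki N) {Y : Type*} [MulAction N Y] [Finite Y] [IsPretransitive N Y]
    (hodd : Odd (Nat.card Y)) (hmax : ∀ y : Y, IsCoatom (stabilizer N y)) :
    IsMultiplyPretransitive N Y 2 := by
  classical
  obtain ⟨F, iF, iT, m, hm, hF, ⟨e⟩⟩ := hSz
  letI := iF
  letI := iT
  set L := ↥(Cfsg.Lie.Sz F (2 ^ (m + 1)))
  haveI : Finite L := Finite.of_equiv N e.toEquiv
  haveI : Nontrivial L := e.symm.toEquiv.nontrivial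
  haveI : IsSimpleGroup L := IsSimpleGroup.isSimpleGroup_of_surjective e.toMonoidHom e.surjective
  obtain ⟨-, S, -, hidx, h2, hreg⟩ := Cfsg.Agent.S1163.result (F := F) hm hF
  set B : Subgroup L := Subgroup.normalizer ((S : Subgroup L) : Set L) with hB
  letI : MulAction L Y := MulAction.compHom Y e.symm.toMonoidHom
  have hsm : ∀ (n : N) (y : Y), e n • y = n • y := fun n y => by
    show e.symm (e n) • y = n • y
    rw [MulEquiv.symm_apply_apply]
  haveI : Fact (Nat.Prime 2) := ⟨Nat.prime_two⟩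
  obtain ⟨y, hy⟩ := S.isPGroup'.nonempty_fixed_point_of_prime_not_dvd_card Y
    (fun h => (Nat.not_even_iff_odd.2 hodd) (even_iff_two_dvd.2 h))
  set M := stabilizer L y with hM
  have hSM : (S : Subgroup L) ≤ M := fun s hs => mem_stabilizer_iff.2 (hy ⟨s, hs⟩)
  have hMtop : ∀ K : Subgroup L, M ≤ K → K = M ∨ K = ⊤ := by
    intro K hK
    have hle : stabilizer N y ≤ K.comap e.toMonoidHom := fun n hn => hK (mem_stabilizer_iff.2 (by
      show e n • y = y
      rw [hsm]; exact mem_stabilizer_iff.1 hn))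
    rcases eq_or_lt_of_le hle with h | h
    · refine Or.inl (le_antisymm (fun l hl => mem_stabilizer_iff.2 ?_) hK)
      obtain ⟨n, rfl⟩ := e.surjective l
      have : n ∈ K.comap e.toMonoidHom := hl
      rw [← h] at this
      rw [hsm]; exact mem_stabilizer_iff.1 this
    · refine Or.inr (eq_top_iff.2 fun l _ => ?_)
      obtain ⟨n, rfl⟩ := e.surjective l
      have : n ∈ K.comap e.toMonoidHom := by rw [(hmax y).2 _ h]; exact Subgroup.mem_top _
      exact this
  have hMne : M ≠ ⊤ := by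
    intro h
    refine (hmax y).1 (eq_top_iff.2 fun n _ => mem_stabilizer_iff.2 ?_)
    rw [← hsm]
    exact mem_stabilizer_iff.1 (show e n ∈ M from h ▸ Subgroup.mem_top _)
  have hBne : B ≠ ⊤ := by
    intro h
    rw [h, Subgroup.index_top] at hidx
    have : 0 < (2 ^ (2 * m + 1)) ^ 2 := by positivity
    omega
  have hMB : M ≤ B := by
    by_contra hnot
    obtain ⟨x, hxM, hxB⟩ := SetLike.not_le_iff_exists.1 hnot
    have hconj : ∀ g : L, ∀ s ∈ (S : Subgroup L), g * s * g⁻¹ ∈ M := by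
      intro g s hs
      by_cases hg : g ∈ B
      · exact hSM ((Subgroup.mem_normalizer_iff.1 hg s).1 hs)
      · have hne : ∀ z : L, z ∉ B → (z : L ⧸ B) ≠ QuotientGroup.mk 1 := fun z hz e' =>
          hz (by simpa using QuotientGroup.eq.1 e'.symm)
        obtain ⟨t, ht, -⟩ := hreg (x : L ⧸ B) (g : L ⧸ B) (hne x hxB) (hne g hg)
        change (((t : L) * x : L) : L ⧸ B) = (g : L ⧸ B) at ht
        rw [QuotientGroup.eq] at ht
        set b := ((t : L) * x)⁻¹ * g with hb
        rw [show g = (t : L) * x * b by rw [hb, mul_inv_cancel_left]]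
        rw [show (t : L) * x * b * s * ((t : L) * x * b)⁻¹ =
          (t : L) * (x * (b * s * b⁻¹) * x⁻¹) * (t : L)⁻¹ by simp only [mul_inv_rev, mul_assoc]]
        exact M.mul_mem (M.mul_mem (hSM t.2) (M.mul_mem (M.mul_mem hxM
          (hSM ((Subgroup.mem_normalizer_iff.1 ht s).1 hs))) (M.inv_mem hxM))) (M.inv_mem (hSM t.2))
    have hncl : Subgroup.normalClosure ((S : Subgroup L) : Set L) ≤ M := by
      rw [Subgroup.normalClosure, Subgroup.closure_le]
      intro z hz
      obtain ⟨s, hs, hsz⟩ := Group.mem_conjugatesOfSet_iff.1 hz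
      obtain ⟨g, rfl⟩ := isConj_iff.1 hsz
      exact hconj g s hs
    rcases Subgroup.Normal.eq_bot_or_eq_top
      (Subgroup.normalClosure_normal (s := ((S : Subgroup L) : Set L))) with h | h
    · have hSbot : (S : Subgroup L) = ⊥ :=
        le_bot_iff.1 (h ▸ Subgroup.subset_normalClosure)
      exact hBne (by rw [hB, hSbot]; exact Subgroup.normalizer_eq_top _)
    · exact hMne (eq_top_iff.2 (h ▸ hncl))
  have hBM : B = M := (hMtop B hMB).resolve_right hBne
  rw [is_two_pretransitive_iff]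
  intro p q r s hpq hrs
  obtain ⟨gp, rfl⟩ := exists_smul_eq N y p
  obtain ⟨gq, rfl⟩ := exists_smul_eq N y q
  obtain ⟨gr, rfl⟩ := exists_smul_eq N y r
  obtain ⟨gs, rfl⟩ := exists_smul_eq N y s
  have hiff : ∀ g g' : N, ((e g : L) : L ⧸ B) = ((e g' : L) : L ⧸ B) ↔ g • y = g' • y := by
    intro g g'
    rw [QuotientGroup.eq, hBM, hM, mem_stabilizer_iff, mul_smul, inv_smul_eq_iff, hsm, hsm]
    exact eq_comm
  obtain ⟨l, hl1, hl2⟩ := is_two_pretransitive_iff.1 h2
    (fun h => hpq ((hiff gp gq).1 h)) (fun h => hrs ((hiff gr gs).1 h))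
  refine ⟨e.symm l, ?_, ?_⟩
  · rw [← mul_smul]
    refine (hiff _ gr).1 ?_
    rw [map_mul, MulEquiv.apply_symm_apply]
    exact hl1
  · rw [← mul_smul]
    refine (hiff _ gs).1 ?_
    rw [map_mul, MulEquiv.apply_symm_apply]
    exact hl2

variable {G : Type u} {Ω : Type*} [Group G] [Finite G] [MulAction G Ω] [Finite Ω] {H : Subgroup G}

/-- The two-point stabiliser has order prime to three together with a three-point stabiliser. -/
theorem pairIn_three (T : Triple G Ω H) (h3 : 3 ∣ Nat.card Ω) {a b c : Ω} (hab : a ≠ b)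
    (hca : c ≠ a) (hcb : c ≠ b) (h0 : ¬ 3 ∣ Nat.card ↥(pairIn H a b ⊓ stabilizer G c)) :
    ¬ 3 ∣ Nat.card ↥(pairIn H a b) := by
  haveI : Fact (Nat.Prime 3) := ⟨Nat.prime_three⟩
  have hbot : IsMaxThree (pairIn H a b ⊓ stabilizer G c) ⊥ := by
    refine ⟨bot_le, IsPGroup.of_bot, fun Q hQ hQp => ?_⟩
    obtain ⟨k, hk⟩ := IsPGroup.iff_card.1 hQp
    rw [Subgroup.card_bot, hk]
    rcases k with _ | k
    · simp
    · exact absurd ((dvd_pow_self 3 k.succ_ne_zero).trans
        (hk ▸ Subgroup.card_dvd_of_le hQ)) h0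
  intro hd
  obtain ⟨g, hg⟩ := exists_prime_orderOf_dvd_card' 3 hd
  have h := (maxThree_pair T hab hca hcb h3 hbot).2.2 _ (Subgroup.zpowers_le.2 g.2)
    (IsPGroup.of_card (n := 1) (by rw [Nat.card_zpowers, Subgroup.orderOf_coe, hg, pow_one]))
  rw [Nat.card_zpowers, Subgroup.orderOf_coe, hg, Subgroup.card_bot] at h
  omega

/-- A simple socle gives one orbit. -/
theorem covers_of_simpleStab (hSz : ThreePrimeSimple.{u}) (T : Triple G Ω H) (h3 : 3 ∣ Nat.card Ω)
    (heven : Even (Nat.card Ω)) {a b c : Ω} (hab : a ≠ b) (hca : c ≠ a) (hcb : c ≠ b)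
    (h0 : ¬ 3 ∣ Nat.card ↥(pairIn H a b ⊓ stabilizer G c)) {N : Subgroup G}
    (hN : SimpleStab H a N) : Covers H a b c c := by
  classical
  let Y := {y : Ω // y ≠ a}
  letI : MulAction N Y :=
    { smul := fun v y => ⟨(v : G) • (y : Ω), fun e =>
        y.2 (smul_left_cancel (v : G) (e.trans (hN.fix v v.2).symm))⟩
      one_smul := fun y => Subtype.ext (one_smul G (y : Ω))
      mul_smul := fun v w y => Subtype.ext (mul_smul (v : G) w (y : Ω)) }
  haveI : IsPretransitive N Y := ⟨fun y z => by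
    obtain ⟨v, hv, e⟩ := hN.reg y z y.2 z.2
    exact ⟨⟨v, hv⟩, Subtype.ext e⟩⟩
  have hstab : ∀ (y : Y) (v : N), v ∈ stabilizer N y ↔ (v : G) ∈ stabilizer G (y : Ω) :=
    fun y v => ⟨fun h => congrArg Subtype.val (mem_stabilizer_iff.1 h),
      fun h => mem_stabilizer_iff.2 (Subtype.ext h)⟩
  have hY : Nat.card Y + 1 = Nat.card Ω := by
    haveI := Fintype.ofFinite Ω
    have h1 : 0 < Fintype.card Ω := Fintype.card_pos_iff.2 ⟨a⟩
    rw [Nat.card_eq_fintype_card, Nat.card_eq_fintype_card, Fintype.card_subtype_compl,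
      Fintype.card_subtype_eq]
    omega
  haveI := hN.simple
  haveI : Nonempty Y := ⟨⟨b, hab.symm⟩⟩
  have hmax : ∀ y : Y, IsCoatom (stabilizer N y) := by
    intro y
    have hK : ∀ K : Subgroup N, stabilizer N y ≤ K → K = stabilizer N y ∨ K = ⊤ := by
      intro K hK
      rcases hN.maximal y y.2 (K.map N.subtype) (Subgroup.map_subtype_le _) (by
        rintro v ⟨hv, hvy⟩
        exact ⟨⟨v, hv⟩, hK ((hstab y ⟨v, hv⟩).2 hvy), rfl⟩) with h | h
      · refine Or.inl (le_antisymm (fun v hv => (hstab y v).2 ?_) hK)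
        have : (v : G) ∈ K.map N.subtype := ⟨v, hv, rfl⟩
        rw [h] at this
        exact this.2
      · refine Or.inr (eq_top_iff.2 fun v _ => ?_)
        obtain ⟨w, hw, e⟩ : (v : G) ∈ K.map N.subtype := by rw [h]; exact v.2
        exact (Subtype.ext e : w = v) ▸ hw
    refine ⟨fun htop => ?_, fun K hlt => (hK K hlt.le).resolve_left hlt.ne'⟩
    obtain ⟨z, hzy⟩ : ∃ z : Y, z ≠ y := by
      by_cases hb : (⟨b, hab.symm⟩ : Y) = y
      · exact ⟨⟨c, hca⟩, fun e => hcb (congrArg Subtype.val (e.trans hb.symm))⟩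
      · exact ⟨_, hb⟩
    obtain ⟨v, rfl⟩ := exists_smul_eq N y z
    exact hzy (mem_stabilizer_iff.1 (htop ▸ Subgroup.mem_top v))
  -- the order is prime to three
  have h3N : ¬ 3 ∣ Nat.card N := by
    have h1 : Nat.card N = Nat.card Y * Nat.card (stabilizer N (⟨b, hab.symm⟩ : Y)) := by
      rw [← index_stabilizer_of_transitive N (⟨b, hab.symm⟩ : Y), mul_comm]
      exact (Subgroup.card_mul_index _).symm
    have h2 : Nat.card (stabilizer N (⟨b, hab.symm⟩ : Y)) ∣ Nat.card ↥(pairIn H a b) := by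
      rw [← Subgroup.card_map_of_injective N.subtype_injective]
      refine Subgroup.card_dvd_of_le ?_
      rintro _ ⟨v, hv, rfl⟩
      exact ⟨hN.le v.2, hN.fix v v.2, (hstab _ v).1 hv⟩
    rw [h1, Nat.prime_three.dvd_mul]
    rintro (h | h)
    · omega
    · exact pairIn_three T h3 hab hca hcb h0 (h.trans h2)
  have hna : ¬ IsMulCommutative N := by
    intro hc
    refine hN.point_ne_bot b hab.symm ((Subgroup.eq_bot_iff_forall _).2 fun v hv => ?_)
    refine T.faithful v fun z => ?_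
    by_cases hza : z = a
    · rw [hza]; exact hN.fix v hv.1
    · obtain ⟨w, hw, rfl⟩ := hN.reg b z hab.symm hza
      have : v * w = w * v := congrArg Subtype.val (hc.is_comm.comm ⟨v, hv.1⟩ ⟨w, hw⟩)
      rw [← mul_smul, this, mul_smul, mem_stabilizer_iff.1 hv.2]
  have h2 : IsMultiplyPretransitive N Y 2 :=
    two_transitive_of_suzuki (hSz N hN.simple hna h3N) (by
      obtain ⟨k, hk⟩ := heven
      exact ⟨k - 1, by omega⟩) hmax
  refine ⟨hca, hcb, hca, hcb, fun x hxa hxb => ?_⟩
  have hbc : (⟨b, hab.symm⟩ : Y) ≠ ⟨c, hca⟩ := fun e => hcb (congrArg Subtype.val e).symm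
  have hbx : (⟨b, hab.symm⟩ : Y) ≠ ⟨x, hxa⟩ := fun e => hxb (congrArg Subtype.val e).symm
  obtain ⟨v, hv1, hv2⟩ := is_two_pretransitive_iff.1 h2 hbc hbx
  exact ⟨(v : G), ⟨hN.le v.2, hN.fix v v.2, congrArg Subtype.val hv1⟩,
    Or.inl (congrArg Subtype.val hv2)⟩

end CfsgLib.TripleOrbits
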