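import Mathlib
import Cfsg.Agent.TripleOrbits15.Induction
import Cfsg.Agent.TripleOrbits15.SimpleCase
import Cfsg.Agent.S0205

/-!
At most two orbits on triples; and for degree divisible by four, one orbit or a normal `PSL(2, q)`.
-/

set_option autoImplicit false
set_option linter.unusedSectionVars false
set_option linter.style.haveILetI false

open MulAction

namespace CfsgLib.TripleOrbits

universe u v

variable {G : Type u} {Ω : Type v} [Group G] [Finite G] [MulAction G Ω] [Finite Ω] {H : Subgroup G}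

/-- Coordinates give a covering by two orbits. -/
theorem covers_of_coords (T : Triple G Ω H) {F : Type} [Field F] [Fintype F] (D : Coords G Ω F) :
    ∃ c d, Covers H D.i (D.pt 0) c d := by
  classical
  haveI := T.normal
  have hab : D.i ≠ D.pt 0 := (D.ne 0).symm
  obtain ⟨h, hh, h0, h1⟩ := T.two D.i (D.pt 0) (D.pt 0) D.i hab hab.symm
  have hsq : ∀ s : Fˣ, s ^ 2 ∈ D.scalarsIn H := fun s => D.sq_mem_scalarsIn H ⟨h, hh, h0, h1⟩ s
  have key : ∀ (a : Fˣ) (z : F), a ∈ D.scalarsIn H →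
      ∃ e ∈ pairIn H D.i (D.pt 0), e • D.pt z = D.pt ((a : F) * z) := by
    rintro a z ⟨g, hgH, hgi, hg⟩
    refine ⟨g, ⟨hgH, hgi, ?_⟩, hg z⟩
    show g • D.pt 0 = D.pt 0
    rw [hg, map_zero, mul_zero]
  have h2 : ringChar F ≠ 2 := fun h => D.two (by
    haveI := ringChar.of_eq h
    exact CharTwo.two_eq_zero)
  obtain ⟨ν, hν⟩ := FiniteField.exists_nonsquare h2
  have hν0 : ν ≠ 0 := by rintro rfl; exact hν (IsSquare.zero)
  refine ⟨D.pt 1, D.pt ν, D.ne 1, D.inj.ne one_ne_zero, D.ne ν, D.inj.ne hν0, fun x hxa hxb => ?_⟩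
  obtain ⟨u, rfl⟩ := D.surj x hxa
  have hu : u ≠ 0 := fun e => hxb (by rw [e])
  by_cases hu2 : IsSquare u
  · obtain ⟨s, rfl⟩ := hu2
    have hs : s ≠ 0 := fun e => hu (by rw [e, mul_zero])
    obtain ⟨e, he, hee⟩ := key (Units.mk0 s hs ^ 2) 1 (hsq _)
    refine ⟨e, he, Or.inl ?_⟩
    rw [hee, mul_one, Units.val_pow_eq_pow_val, Units.val_mk0, pow_two]
  · have hq : IsSquare (u * ν⁻¹) := by
      have h := quadraticChar_neg_one_iff_not_isSquare.2 hu2
      have h' := quadraticChar_neg_one_iff_not_isSquare.2 (show ¬ IsSquare ν⁻¹ from fun ⟨s, hs⟩ =>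
        hν ⟨s⁻¹, by rw [← mul_inv, ← hs, inv_inv]⟩)
      refine (quadraticChar_one_iff_isSquare (mul_ne_zero hu (inv_ne_zero hν0))).1 ?_
      rw [map_mul, h, h']; norm_num
    obtain ⟨s, hs⟩ := hq
    have hs0 : s ≠ 0 := fun e => mul_ne_zero hu (inv_ne_zero hν0) (by rw [hs, e, mul_zero])
    obtain ⟨e, he, hee⟩ := key (Units.mk0 s hs0 ^ 2) ν (hsq _)
    refine ⟨e, he, Or.inr ?_⟩
    rw [hee, Units.val_pow_eq_pow_val, Units.val_mk0, pow_two, ← hs, inv_mul_cancel_right₀ hν0]

theorem baseCase (hSz : ThreePrimeSimple.{u}) : BaseCase.{u, v} := by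
  intro G Ω _ _ _ _ H T h3 heven h4 a b c hab hca hcb h0
  rcases exists_socle T h4 a with ⟨V, p, k, hV, hp, hcard⟩ | ⟨N, hN⟩
  · obtain ⟨F, iF, iT, D, τ, rfl, rfl, -, -, -, -⟩ := exists_coords T h3 heven h4 hab hV hp hcard
      (Or.inr ⟨hSz, pairIn_three T h3 hab hca hcb h0⟩)
    exact covers_of_coords T D
  · exact ⟨c, c, covers_of_simpleStab hSz T h3 heven hab hca hcb h0 hN⟩

/-- Two orbits of odd size and a degree that is even: the point stabiliser has odd order. -/
theorem odd_card_of_two_orbits (T : Triple G Ω H) {a b c d : Ω} (hab : a ≠ b)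
    (hC : Covers H a b c d) (hne : ∀ e ∈ pairIn H a b, e • c ≠ d)
    (hmod : Nat.card Ω % 4 = 0) : Odd (Nat.card ↥(H ⊓ stabilizer G a)) := by
  classical
  obtain ⟨hca, hcb, hda, hdb, hC⟩ := hC
  set S := H ⊓ stabilizer G a with hS
  set E := stabilizer S b with hE
  have hEmem : ∀ e : S, e ∈ E → (e : G) ∈ pairIn H a b := fun e he =>
    ⟨e.2.1, e.2.2, mem_stabilizer_iff.1 he⟩
  have hmemE : ∀ e ∈ pairIn H a b, ∃ e' : E, ((e' : S) : G) = e := fun e he =>
    ⟨⟨⟨e, he.1, he.2.1⟩, mem_stabilizer_iff.2 he.2.2⟩, rfl⟩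
  haveI := T.normal
  -- the two orbits have the same size
  obtain ⟨g, g1, g2, g3⟩ := T.three a b c a b d hab hca.symm hcb.symm hab hda.symm hdb.symm
  set Oc := orbit E c with hOc
  set Od := orbit E d with hOd
  have hgconj : ∀ h : G, h • a = a → h • b = b → ∀ e ∈ pairIn H a b,
      h * e * h⁻¹ ∈ pairIn H a b := fun h ha hb e he => ⟨T.normal.conj_mem e he.1 h, by
        show (h * e * h⁻¹) • a = a
        rw [mul_smul, mul_smul, inv_smul_eq_iff.2 ha.symm, mem_stabilizer_iff.1 he.2.1, ha], by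
        show (h * e * h⁻¹) • b = b
        rw [mul_smul, mul_smul, inv_smul_eq_iff.2 hb.symm, mem_stabilizer_iff.1 he.2.2, hb]⟩
  have himg : (fun y => g • y) '' Oc = Od := by
    ext y
    constructor
    · rintro ⟨_, ⟨e, rfl⟩, rfl⟩
      obtain ⟨e', he'⟩ := hmemE _ (hgconj g g1 g2 _ (hEmem _ e.2))
      refine ⟨e', ?_⟩
      show ((e' : S) : G) • d = g • ((e : S) : G) • c
      rw [he', ← g3, mul_smul, inv_smul_smul, mul_smul]
    · rintro ⟨e, rfl⟩
      obtain ⟨e', he'⟩ := hmemE _ (hgconj g⁻¹ (inv_smul_eq_iff.2 g1.symm)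
        (inv_smul_eq_iff.2 g2.symm) _ (hEmem _ e.2))
      refine ⟨_, ⟨e', rfl⟩, ?_⟩
      show g • ((e' : S) : G) • c = ((e : S) : G) • d
      rw [he', inv_inv, mul_smul, mul_smul, g3, smul_inv_smul]
  have hsize : Od.ncard = Oc.ncard := by
    rw [← himg, Set.ncard_image_of_injective _ (MulAction.injective g)]
  have hdisj : Disjoint Oc Od := by
    rw [Set.disjoint_left]
    rintro y ⟨e, rfl⟩ ⟨e', h⟩
    refine hne _ ((pairIn H a b).mul_mem ((pairIn H a b).inv_mem (hEmem _ e'.2)) (hEmem _ e.2)) ?_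
    show (((e' : S) : G)⁻¹ * ((e : S) : G)) • c = d
    rw [mul_smul, inv_smul_eq_iff]
    exact h.symm
  have hunion : Oc ∪ Od = ({a, b} : Set Ω)ᶜ := by
    ext y
    simp only [Set.mem_union, Set.mem_compl_iff, Set.mem_insert_iff, Set.mem_singleton_iff, not_or]
    constructor
    · rintro (⟨e, rfl⟩ | ⟨e, rfl⟩)
      · exact ⟨fun h => hca (smul_left_cancel ((e : S) : G)
          (h.trans (hEmem _ e.2).2.1.symm)),
          fun h => hcb (smul_left_cancel ((e : S) : G) (h.trans (hEmem _ e.2).2.2.symm))⟩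
      · exact ⟨fun h => hda (smul_left_cancel ((e : S) : G)
          (h.trans (hEmem _ e.2).2.1.symm)),
          fun h => hdb (smul_left_cancel ((e : S) : G) (h.trans (hEmem _ e.2).2.2.symm))⟩
    · rintro ⟨hya, hyb⟩
      obtain ⟨e, he, hy⟩ := hC y hya hyb
      obtain ⟨e', he'⟩ := hmemE e he
      rcases hy with hy | hy
      · exact Or.inl ⟨e', by show ((e' : S) : G) • c = y; rw [he', hy]⟩
      · exact Or.inr ⟨e', by show ((e' : S) : G) • d = y; rw [he', hy]⟩
  have hcount : 2 * Oc.ncard + 2 = Nat.card Ω := by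
    have h := congrArg Set.ncard hunion
    rw [Set.ncard_union_eq hdisj, hsize, Set.ncard_compl, Set.ncard_pair hab] at h
    have : 2 ≤ Nat.card Ω := by
      rw [← Set.ncard_pair hab, ← Set.ncard_univ]
      exact Set.ncard_le_ncard (Set.subset_univ _)
    omega
  -- the orbit of `b` is everything but `a`
  have hSb : orbit S b = ({a} : Set Ω)ᶜ := by
    ext y
    constructor
    · rintro ⟨s, rfl⟩ h
      exact hab.symm (smul_left_cancel (s : G) ((Set.mem_singleton_iff.1 h).trans s.2.2.symm))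
    · intro hy
      obtain ⟨h, hh, h0, h1⟩ := T.two a b a y hab (Ne.symm hy)
      exact ⟨⟨h, hh, h0⟩, h1⟩
  rw [← Nat.not_even_iff_odd, even_iff_two_dvd]
  intro h2
  haveI : Fact (Nat.Prime 2) := ⟨Nat.prime_two⟩
  obtain ⟨τ, hτ⟩ := exists_prime_orderOf_dvd_card' (G := S) 2 h2
  have hτ2 : (τ : G) * τ = 1 := by
    rw [← pow_two, ← SubgroupClass.coe_pow, ← hτ, pow_orderOf_eq_one]; rfl
  obtain ⟨y, hy⟩ : ∃ y, (τ : G) • y ≠ y := by
    by_contra h
    push Not at h
    have h1 : τ = 1 := Subtype.ext (T.faithful _ h)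
    rw [h1, orderOf_one] at hτ
    omega
  have hya : y ≠ a := fun e => hy (by rw [e]; exact τ.2.2)
  obtain ⟨s, hs⟩ : y ∈ orbit S b := hSb ▸ hya
  -- an element exchanging `b` and a point of one of the orbits
  set σ := s⁻¹ * τ * s with hσ
  set x := (σ : G) • b with hx
  have hσx : (σ : G) • x = b := by
    rw [hx, ← mul_smul, hσ, Subgroup.coe_mul, Subgroup.coe_mul, Subgroup.coe_inv,
      show (s : G)⁻¹ * τ * s * ((s : G)⁻¹ * τ * s) = (s : G)⁻¹ * (τ * τ) * s by group, hτ2]
    simp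
  have hxb : x ≠ b := by
    intro e
    apply hy
    rw [← hs]
    show (τ : G) • (s : G) • b = (s : G) • b
    rw [hx, hσ, Subgroup.coe_mul, Subgroup.coe_mul, Subgroup.coe_inv, mul_smul, mul_smul,
      inv_smul_eq_iff] at e
    exact e
  have hxa : x ≠ a := fun e => hab.symm (smul_left_cancel (σ : G) (e.trans σ.2.2.symm))
  -- the orbit of a pair
  have main : ∀ w : Ω, w ≠ b → x ∈ orbit E w → Odd (orbit E w).ncard → False := by
    rintro w hwb ⟨e, he⟩ hodd
    have hsw : ((e : S)⁻¹ * σ * (e : S)) • b = w ∧ ((e : S)⁻¹ * σ * (e : S)) • w = b := by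
      have hw : (e : S) • w = x := he
      have heb : (e : S) • b = b := e.2
      constructor
      · rw [mul_smul, mul_smul, heb, inv_smul_eq_iff, hw]; rfl
      · rw [mul_smul, mul_smul, hw, inv_smul_eq_iff, heb]; exact hσx
    set η := (e : S)⁻¹ * σ * (e : S) with hη
    set P := orbit S ((b, w) : Ω × Ω) with hP
    have hEw : Nat.card (stabilizer S ((b, w) : Ω × Ω)) = Nat.card (stabilizer E w) := by
      refine Nat.card_congr
        { toFun := fun t => ⟨⟨t, mem_stabilizer_iff.2 (congrArg Prod.fst (mem_stabilizer_iff.1 t.2))⟩,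
            mem_stabilizer_iff.2 (congrArg Prod.snd (mem_stabilizer_iff.1 t.2))⟩
          invFun := fun t => ⟨(t : E), mem_stabilizer_iff.2 (Prod.ext (t : E).2 t.2)⟩
          left_inv := fun t => rfl
          right_inv := fun t => rfl }
    have c1 : P.ncard * Nat.card (stabilizer S ((b, w) : Ω × Ω)) = Nat.card S := by
      rw [hP, ← Nat.card_coe_set_eq, ← Nat.card_prod]
      exact Nat.card_congr (orbitProdStabilizerEquivGroup S ((b, w) : Ω × Ω))
    have c2 : (orbit S b).ncard * Nat.card E = Nat.card S := by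
      rw [← Nat.card_coe_set_eq, ← Nat.card_prod]
      exact Nat.card_congr (orbitProdStabilizerEquivGroup S b)
    have c3 : (orbit E w).ncard * Nat.card (stabilizer E w) = Nat.card E := by
      rw [← Nat.card_coe_set_eq, ← Nat.card_prod]
      exact Nat.card_congr (orbitProdStabilizerEquivGroup E w)
    have hPodd : Odd P.ncard := by
      have h : P.ncard = (orbit S b).ncard * (orbit E w).ncard := by
        refine Nat.eq_of_mul_eq_mul_right (Nat.card_pos (α := stabilizer E w)) ?_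
        rw [mul_assoc, c3, c2, ← hEw, c1]
      rw [h, hSb, Set.ncard_compl, Set.ncard_singleton, Nat.odd_mul]
      refine ⟨⟨Nat.card Ω / 2 - 1, by omega⟩, hodd⟩
    have hswap : ∀ q ∈ P, Prod.swap q ∈ P := by
      rintro _ ⟨t, rfl⟩
      refine ⟨t * η, ?_⟩
      show (t * η) • (b, w) = Prod.swap (t • (b, w))
      rw [mul_smul, show η • ((b, w) : Ω × Ω) = (w, b) from Prod.ext hsw.1 hsw.2]
      rfl
    have hfix : ∀ q ∈ P, Prod.swap q ≠ q := by
      rintro _ ⟨t, rfl⟩ e
      exact hwb (MulAction.injective t (congrArg Prod.fst e))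
    haveI : Fintype P := Fintype.ofFinite P
    let f : Equiv.Perm P := Function.Involutive.toPerm (fun q => ⟨Prod.swap q.1, hswap _ q.2⟩)
      fun q => Subtype.ext (Prod.swap_swap _)
    have hs0 : ∑ _q : P, (1 : ZMod 2) = 0 :=
      Finset.sum_involution (fun q _ => f q) (fun q _ => CharTwo.add_self_eq_zero 1)
        (fun q _ _ h => hfix q.1 q.2 (congrArg Subtype.val h)) (fun q _ => Finset.mem_univ _)
        (fun q _ => Subtype.ext (Prod.swap_swap _))
    rw [Finset.sum_const, Finset.card_univ, nsmul_eq_mul, mul_one, ZMod.natCast_eq_zero_iff,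
      ← Nat.card_eq_fintype_card, Nat.card_coe_set_eq] at hs0
    exact (Nat.not_even_iff_odd.2 hPodd) (even_iff_two_dvd.2 hs0)
  have hOodd : Odd Oc.ncard := ⟨Nat.card Ω / 4 - 1, by omega⟩
  have hxu : x ∈ Oc ∪ Od := by rw [hunion]; simp [hxa, hxb]
  rcases hxu with h | h
  · exact main c hcb h hOodd
  · exact main d hdb h (show Odd Od.ncard from hsize ▸ hOodd)

/-- One orbit, or a normal `PSL(2, q)`, for degree divisible by four. -/
theorem three_or_psl (hSz : ThreePrimeSimple.{u}) (T : Triple G Ω H) (h3 : 3 ∣ Nat.card Ω)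
    (hmod : Nat.card Ω % 4 = 0) (h4 : 3 < Nat.card Ω) {a b : Ω} (hab : a ≠ b) :
    IsMultiplyPretransitive H Ω 3 ∨
      ∃ (F : Type) (_ : Field F) (_ : Fintype F) (N : Subgroup G), N ≤ H ∧ N.Normal ∧
        Fintype.card F + 1 = Nat.card Ω ∧
        Nonempty (N ≃* Matrix.ProjectiveSpecialLinearGroup (Fin 2) F) := by
  classical
  obtain ⟨c, d, hC⟩ := exists_covers (baseCase.{u, v} hSz) T h3 h4 hab
  obtain ⟨hca, hcb, hda, hdb, hC'⟩ := hC
  by_cases hcd : ∃ e ∈ pairIn H a b, e • c = d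
  · obtain ⟨e, he, hed⟩ := hcd
    refine Or.inl (T.three_pretransitive hab (c := c) ⟨hca, hcb, hca, hcb, fun x hxa hxb => ?_⟩)
    obtain ⟨f, hf, hfx⟩ := hC' x hxa hxb
    rcases hfx with h | h
    · exact ⟨f, hf, Or.inl h⟩
    · exact ⟨f * e, (pairIn H a b).mul_mem hf he, Or.inl (by rw [mul_smul, hed, h])⟩
  push Not at hcd
  right
  have hodd := odd_card_of_two_orbits T hab ⟨hca, hcb, hda, hdb, hC'⟩ hcd hmod
  rcases exists_socle T h4 a with ⟨V, p, k, hV, hp, hcard⟩ | ⟨N, hN⟩
  swap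
  · exfalso
    have hNle : N ≤ H ⊓ stabilizer G a := le_inf hN.le fun v hv => mem_stabilizer_iff.2 (hN.fix v hv)
    haveI := Cfsg.Agent.S0205.result (G := N) (hodd.of_dvd_nat (Subgroup.card_dvd_of_le hNle))
    haveI := hN.simple
    have hc : IsMulCommutative N := by
      by_contra hnc
      rcases (inferInstance : (commutator N).Normal).eq_bot_or_eq_top with h | h
      · exact hnc ⟨⟨fun u v => by
          have h1 : v * u * v⁻¹ * u⁻¹ ∈ commutator N := by
            rw [commutator_def]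
            exact Subgroup.commutator_mem_commutator (Subgroup.mem_top v) (Subgroup.mem_top u)
          rw [h, Subgroup.mem_bot, mul_inv_eq_one, mul_inv_eq_iff_eq_mul] at h1
          exact h1.symm⟩⟩
      · exact (IsSolvable.commutator_lt_top_of_nontrivial (G := N)).ne h
    refine hN.point_ne_bot b hab.symm ((Subgroup.eq_bot_iff_forall _).2 fun v hv => ?_)
    refine T.faithful v fun z => ?_
    by_cases hza : z = a
    · rw [hza]; exact hN.fix v hv.1
    · obtain ⟨w, hw, rfl⟩ := hN.reg b z hab.symm hza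
      have : v * w = w * v := congrArg Subtype.val (hc.is_comm.comm ⟨v, hv.1⟩ ⟨w, hw⟩)
      rw [← mul_smul, this, mul_smul, mem_stabilizer_iff.1 hv.2]
  have hsol : Group.IsSolvable ↥(pairIn H a b) :=
    Cfsg.Agent.S0205.result (hodd.of_dvd_nat (Subgroup.card_dvd_of_le
      (inf_le_inf_left H inf_le_left)))
  obtain ⟨F, iF, iT, D, τ, hDi, -, hF, hτi, hτ, hτH⟩ :=
    exists_coords T h3 (by rw [Nat.even_iff]; omega) h4 hab hV hp hcard (Or.inl hsol)
  letI := iF
  letI := iT
  haveI := T.normal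
  obtain ⟨N, hNH, hNn, hNe⟩ := D.exists_psl (by
    rw [Nat.card_units, Nat.card_eq_fintype_card]; omega) τ hτi hτ H hτH
  exact ⟨F, iF, iT, N, hNH, hNn, hF, hNe⟩

end CfsgLib.TripleOrbits
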